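import Mathlib
import Cfsg.Agent.Helper9.HeO.Abs

set_option autoImplicit false

/-! Abstract lemma: when the centre of a Sylow 2-subgroup has two elements and the elements of the
second centre outside the centre are conjugate in the group, every automorphism maps such an
element to a conjugate of it. -/

namespace Cfsg.Agent.Helper9.FiO

/-- when the centre of a Sylow 2-subgroup `S` consists of the neutral element and `z`, and the
elements of `S` outside the centre that commute with every element of `S` up to `z` and have a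
property that all images of `b` under automorphisms have are conjugates of `b`, which is one of
them, every automorphism maps `b` to a conjugate of it. -/
theorem aut_conj_of_second_center {X : Type*} [Group X] [Finite X] (S : Subgroup X)
    (hcard : Nat.card S = 2 ^ (Nat.card X).factorization 2) (z b : X) (hz1 : z ≠ 1)
    (hzc : ∀ y ∈ S, z * y = y * z)
    (hcen : ∀ x ∈ S, (∀ y ∈ S, x * y = y * x) → x = 1 ∨ x = z)
    (hb : b ∈ S) (hb1 : b ≠ 1) (hbz : b ≠ z)
    (hbc : ∀ s ∈ S, b * s = s * b ∨ b * s = z * s * b)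
    (I : X → Prop) (hI : ∀ α : MulAut X, I (α b))
    (hY : ∀ y ∈ S, y ≠ 1 → y ≠ z → (∀ s ∈ S, y * s = s * y ∨ y * s = z * s * y) → I y →
      ∃ g : X, g * b * g⁻¹ = y)
    (β : MulAut X) : ∃ g : X, g * b * g⁻¹ = β b := by
  have : Fact (Nat.Prime 2) := ⟨Nat.prime_two⟩
  let P : Sylow 2 X := Sylow.ofCard S hcard
  have hQ : Nat.card (S.map β.toMonoidHom) = 2 ^ (Nat.card X).factorization 2 := by
    rw [Subgroup.card_map_of_injective (f := β.toMonoidHom) β.injective]
    exact hcard
  let Q : Sylow 2 X := Sylow.ofCard (S.map β.toMonoidHom) hQ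
  obtain ⟨g, hg⟩ := MulAction.exists_smul_eq X P Q
  have hPS : ∀ x : X, x ∈ (P : Subgroup X) ↔ x ∈ S := fun x => Iff.rfl
  have hQS : ∀ x : X, x ∈ (Q : Subgroup X) ↔ x ∈ S.map β.toMonoidHom := fun x => Iff.rfl
  have hmem : ∀ x : X, x ∈ S.map β.toMonoidHom ↔ ∃ s ∈ S, g * s * g⁻¹ = x := by
    intro x
    rw [← hQS, ← hg, Sylow.coe_subgroup_smul, Subgroup.mem_smul_pointwise_iff_exists]
    constructor
    · rintro ⟨s, hs, rfl⟩
      exact ⟨s, (hPS s).mp hs, rfl⟩
    · rintro ⟨s, hs, rfl⟩
      exact ⟨s, (hPS s).mpr hs, rfl⟩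
  -- the automorphism followed by the conjugation back
  let γ : X → X := fun x => g⁻¹ * β x * g
  have γmul : ∀ x y : X, γ (x * y) = γ x * γ y := by
    intro x y
    change g⁻¹ * β (x * y) * g = (g⁻¹ * β x * g) * (g⁻¹ * β y * g)
    rw [map_mul]
    group
  have γinj : ∀ x y : X, γ x = γ y → x = y := by
    intro x y h
    have h1 : g⁻¹ * β x * g = g⁻¹ * β y * g := h
    exact β.injective (mul_left_cancel (mul_right_cancel h1))
  have γone : γ 1 = 1 := by
    change g⁻¹ * β 1 * g = 1
    rw [map_one]
    group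
  have γS : ∀ s ∈ S, γ s ∈ S := by
    intro s hs
    have h1 : β s ∈ S.map β.toMonoidHom := Subgroup.mem_map.mpr ⟨s, hs, rfl⟩
    obtain ⟨s', hs', e⟩ := (hmem _).mp h1
    have : γ s = s' := by
      change g⁻¹ * β s * g = s'
      rw [← e]
      group
    rw [this]
    exact hs'
  have γsurj : ∀ s ∈ S, ∃ s' ∈ S, γ s' = s := by
    intro s hs
    have h2 : g * s * g⁻¹ ∈ S.map β.toMonoidHom := (hmem _).mpr ⟨s, hs, rfl⟩
    obtain ⟨s', hs', e⟩ := Subgroup.mem_map.mp h2
    refine ⟨s', hs', ?_⟩
    have e' : β s' = g * s * g⁻¹ := e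
    change g⁻¹ * β s' * g = s
    rw [e']
    group
  have hz : z ∈ S := by
    rcases hbc 1 S.one_mem with h | h
    · -- use the centre: z is the product of b * s * b⁻¹ * s⁻¹ for some s, or take it from hcen
      by_contra hzS
      -- b is not central, so some s has b * s = z * s * b
      have hnc : ¬ ∀ y ∈ S, b * y = y * b := by
        intro hc
        rcases hcen b hb hc with h1 | h1
        · exact hb1 h1
        · exact hbz h1
      apply hnc
      intro y hy
      rcases hbc y hy with h1 | h1
      · exact h1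
      · exfalso
        apply hzS
        have : z = b * y * b⁻¹ * y⁻¹ := by
          rw [h1]
          group
        rw [this]
        exact S.mul_mem (S.mul_mem (S.mul_mem hb hy) (S.inv_mem hb)) (S.inv_mem hy)
    · exfalso
      apply hz1
      have : z * b = b := by
        have h2 : b * 1 = z * 1 * b := h
        rw [mul_one, mul_one] at h2
        exact h2.symm
      exact mul_eq_right.mp this
  have γz : γ z = z := by
    have hc : ∀ y ∈ S, γ z * y = y * γ z := by
      intro y hy
      obtain ⟨y', hy', rfl⟩ := γsurj y hy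
      rw [← γmul, ← γmul, hzc y' hy']
    rcases hcen (γ z) (γS z hz) hc with h | h
    · exfalso
      apply hz1
      apply γinj
      rw [h, γone]
    · exact h
  have h1 : γ b ≠ 1 := by
    intro h
    apply hb1
    apply γinj
    rw [h, γone]
  have h2 : γ b ≠ z := by
    intro h
    apply hbz
    apply γinj
    rw [h, γz]
  have h3 : ∀ s ∈ S, γ b * s = s * γ b ∨ γ b * s = z * s * γ b := by
    intro s hs
    obtain ⟨s', hs', rfl⟩ := γsurj s hs
    rcases hbc s' hs' with h | h
    · left
      rw [← γmul, ← γmul, h]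
    · right
      rw [← γmul, h, γmul, γmul, γz]
  have h5 : I (γ b) := by
    have h6 := hI ((MulAut.conj g)⁻¹ * β)
    have h7 : ((MulAut.conj g)⁻¹ * β) b = γ b := by
      rw [MulAut.mul_apply, MulAut.conj_inv_apply]
    rw [h7] at h6
    exact h6
  obtain ⟨k, hk⟩ := hY (γ b) (γS b hb) h1 h2 h3 h5
  refine ⟨g * k, ?_⟩
  have h4 : k * b * k⁻¹ = g⁻¹ * β b * g := hk
  calc g * k * b * (g * k)⁻¹ = g * (k * b * k⁻¹) * g⁻¹ := by group
    _ = g * (g⁻¹ * β b * g) * g⁻¹ := by rw [h4]
    _ = β b := by group

/-- the image of an element under an automorphism has as many conjugates as the element. -/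
theorem ncard_class_aut {X : Type*} [Group X] (α : MulAut X) (x : X) :
    {y : X | ∃ g : X, g * α x * g⁻¹ = y}.ncard = {y : X | ∃ g : X, g * x * g⁻¹ = y}.ncard := by
  have e : {y : X | ∃ g : X, g * α x * g⁻¹ = y} = α '' {y : X | ∃ g : X, g * x * g⁻¹ = y} := by
    ext y
    constructor
    · rintro ⟨g, rfl⟩
      refine ⟨α.symm g * x * (α.symm g)⁻¹, ⟨α.symm g, rfl⟩, ?_⟩
      rw [map_mul, map_mul, map_inv, MulEquiv.apply_symm_apply]
    · rintro ⟨y, ⟨g, rfl⟩, rfl⟩
      refine ⟨α g, ?_⟩
      rw [map_mul, map_mul, map_inv]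
  rw [e]
  exact Set.ncard_image_of_injective _ α.injective

end Cfsg.Agent.Helper9.FiO
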