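import Mathlib
import Cfsg.Agent.Helper9.FiO.Base
import Cfsg.Agent.Helper9.FiO.Abs
import Cfsg.Agent.Helper9.FiO.DataS
import Cfsg.Agent.Helper9.FiO.DataT
import Cfsg.Agent.Helper9.FiO.DataW

set_option autoImplicit false
set_option Elab.async false

/-! A subgroup of order 131072 of the Fischer group on 3510 points, generated by a chain of
seventeen elements: the checks that the kernel computes. -/

namespace Cfsg.Agent.Helper9.FiO

open Cfsg.Agent.Helper9.J3 Cfsg.Agent.Helper9.HeO

/-- the image of a point under a generator of the subgroup. -/
def hF (m x : ℕ) : ℕ := lk12 (nthL hL m) x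

/-- a generator of the subgroup. -/
def hG (m : ℕ) : ↥FiP := ⟨permW (nthW hWL m), permW_mem _⟩

/-- the check of the table of a generator. -/
def hTabChk (m : ℕ) : Bool :=
  andB (okLetters (nthW hWL m)) (chkWord (nthW hWL m) (nthL hL m))

set_option maxRecDepth 1000000 in
theorem hTab_b : allB hTabChk 17 = true := by decide +kernel

theorem hG_apply {m : ℕ} (hm : m < 17) (p : Fin nP) :
    ((hG m : Equiv.Perm (Fin nP)) p).val = hF m p.val := by
  obtain ⟨h1, h2⟩ := andB_true (allB_true hTab_b hm)
  change (permW (nthW hWL m) p).val = _
  rw [permW_val _ (okLetters_true h1)]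
  exact chkWord_true h2 p.isLt

/-- the image of a point under a normal form. -/
def nfF (m e x : ℕ) : ℕ := Nat.rec x (fun k acc => Bool.rec acc (hF k acc) (bitT e k)) m

theorem nfF_succ (m e x : ℕ) :
    nfF (m + 1) e x = Bool.rec (nfF m e x) (hF m (nfF m e x)) (bitT e m) := rfl

/-- the normal form as an element of the group. -/
def nfG (m e : ℕ) : ↥FiP := nfE hG m e

theorem nfG_apply {m : ℕ} (hm : m ≤ 17) (e : ℕ) (p : Fin nP) :
    ((nfG m e : Equiv.Perm (Fin nP)) p).val = nfF m e p.val := by
  induction m with
  | zero => rfl
  | succ m ih =>
    unfold nfG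
    rw [nfE_succ, nfF_succ]
    cases hb : bitT e m
    · rw [if_neg (by simp), one_mul]
      exact ih (by omega)
    · rw [if_pos rfl, Subgroup.coe_mul, Equiv.Perm.mul_apply, hG_apply (by omega)]
      have := ih (by omega)
      unfold nfG at this
      rw [this]

/-- the code of the conjugate of a generator by a later generator. -/
def relc (m k : ℕ) : ℕ := lkF 17 131071 relD (Nat.add (Nat.mul 17 m) k)

/-- the code of the square of a generator. -/
def sqc (m : ℕ) : ℕ := lkF 17 131071 sqD m

/-- the check of the conjugates and of the square of a generator. -/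
def relChk (m : ℕ) : Bool :=
  andB (allB (fun k => sapp (fun c => allB (fun x =>
    Nat.beq (sapp (hF m) (hF k x)) (nfF m c (hF m x))) nP) (relc m k)) m)
    (sapp (fun c => allB (fun x => Nat.beq (sapp (hF m) (hF m x)) (nfF m c x)) nP) (sqc m))

set_option maxRecDepth 1000000 in
theorem rel_b : allB relChk 17 = true := by decide +kernel

/-- the signature of a normal form. -/
def sSig (e : ℕ) : ℕ :=
  Nat.add (nfF 17 e 1714) (Nat.mul 4096 (Nat.add (nfF 17 e 823) (Nat.mul 4096 (nfF 17 e 621))))

/-- the entry of the sorted list of the normal forms. -/
def srt (k : ℕ) : ℕ := lkF 17 131071 (nthL srtL (Nat.shiftRight k 11)) (Nat.land k 2047)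

/-- the check that the signatures increase. -/
def srtChk (k : ℕ) : Bool :=
  andB (Nat.ble (srt k) 131071)
    (orB (Nat.ble 131071 k) (Nat.ble (Nat.succ (sapp sSig (srt k))) (sapp sSig (srt (Nat.succ k)))))

set_option maxRecDepth 1000000 in
theorem srt_b0 : allC srtChk 0 8192 = true := by decide +kernel

set_option maxRecDepth 1000000 in
theorem srt_b1 : allC srtChk 1 8192 = true := by decide +kernel

set_option maxRecDepth 1000000 in
theorem srt_b2 : allC srtChk 2 8192 = true := by decide +kernel

set_option maxRecDepth 1000000 in
theorem srt_b3 : allC srtChk 3 8192 = true := by decide +kernel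

set_option maxRecDepth 1000000 in
theorem srt_b4 : allC srtChk 4 8192 = true := by decide +kernel

set_option maxRecDepth 1000000 in
theorem srt_b5 : allC srtChk 5 8192 = true := by decide +kernel

set_option maxRecDepth 1000000 in
theorem srt_b6 : allC srtChk 6 8192 = true := by decide +kernel

set_option maxRecDepth 1000000 in
theorem srt_b7 : allC srtChk 7 8192 = true := by decide +kernel

set_option maxRecDepth 1000000 in
theorem srt_b8 : allC srtChk 8 8192 = true := by decide +kernel

set_option maxRecDepth 1000000 in
theorem srt_b9 : allC srtChk 9 8192 = true := by decide +kernel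

set_option maxRecDepth 1000000 in
theorem srt_b10 : allC srtChk 10 8192 = true := by decide +kernel

set_option maxRecDepth 1000000 in
theorem srt_b11 : allC srtChk 11 8192 = true := by decide +kernel

set_option maxRecDepth 1000000 in
theorem srt_b12 : allC srtChk 12 8192 = true := by decide +kernel

set_option maxRecDepth 1000000 in
theorem srt_b13 : allC srtChk 13 8192 = true := by decide +kernel

set_option maxRecDepth 1000000 in
theorem srt_b14 : allC srtChk 14 8192 = true := by decide +kernel

set_option maxRecDepth 1000000 in
theorem srt_b15 : allC srtChk 15 8192 = true := by decide +kernel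

theorem srt_b {k : ℕ} (hk : k < 131072) : srtChk k = true := by
  refine allC_true (K := 16) (c := 8192) ?_ (by omega)
  intro i hi
  interval_cases i
  · exact srt_b0
  · exact srt_b1
  · exact srt_b2
  · exact srt_b3
  · exact srt_b4
  · exact srt_b5
  · exact srt_b6
  · exact srt_b7
  · exact srt_b8
  · exact srt_b9
  · exact srt_b10
  · exact srt_b11
  · exact srt_b12
  · exact srt_b13
  · exact srt_b14
  · exact srt_b15

/-- the entry of the table of the witnesses. -/
def wit (e : ℕ) : ℕ := lkF 29 536870911 (nthL witL (Nat.shiftRight e 10)) (Nat.land e 1023)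

/-- the numbers of the normal forms without witness. -/
def spec (e : ℕ) : Bool := orB (Nat.ble e 3) (andB (Nat.ble 168 e) (Nat.ble e 171))

/-- the check that an element does not commute with a generator at a point. -/
def ncChk (e k p : ℕ) : Bool := notB (Nat.beq (nfF 17 e (hF k p)) (sapp (hF k) (nfF 17 e p)))

/-- the check that an element does not commute with a generator up to the involution in the centre
at a point. -/
def nzChk (e k q : ℕ) : Bool :=
  notB (Nat.beq (nfF 17 e (hF k q)) (sapp (hF 0) (sapp (hF k) (nfF 17 e q))))

/-- the check of the witness of a normal form. -/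
def witChk (e : ℕ) : Bool :=
  orB (spec e) (sapp (fun w => sapp (fun k => sapp (fun p => sapp (fun q =>
    andB (Nat.ble k 16) (andB (Nat.ble p 3509) (andB (Nat.ble q 3509)
      (andB (ncChk e k p) (nzChk e k q)))))
    (Nat.shiftRight w 17)) (Nat.land (Nat.shiftRight w 5) 4095)) (Nat.land w 31)) (wit e))

set_option maxRecDepth 1000000 in
theorem wit_b0 : allC witChk 0 8192 = true := by decide +kernel

set_option maxRecDepth 1000000 in
theorem wit_b1 : allC witChk 1 8192 = true := by decide +kernel

set_option maxRecDepth 1000000 in
theorem wit_b2 : allC witChk 2 8192 = true := by decide +kernel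

set_option maxRecDepth 1000000 in
theorem wit_b3 : allC witChk 3 8192 = true := by decide +kernel

set_option maxRecDepth 1000000 in
theorem wit_b4 : allC witChk 4 8192 = true := by decide +kernel

set_option maxRecDepth 1000000 in
theorem wit_b5 : allC witChk 5 8192 = true := by decide +kernel

set_option maxRecDepth 1000000 in
theorem wit_b6 : allC witChk 6 8192 = true := by decide +kernel

set_option maxRecDepth 1000000 in
theorem wit_b7 : allC witChk 7 8192 = true := by decide +kernel

set_option maxRecDepth 1000000 in
theorem wit_b8 : allC witChk 8 8192 = true := by decide +kernel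

set_option maxRecDepth 1000000 in
theorem wit_b9 : allC witChk 9 8192 = true := by decide +kernel

set_option maxRecDepth 1000000 in
theorem wit_b10 : allC witChk 10 8192 = true := by decide +kernel

set_option maxRecDepth 1000000 in
theorem wit_b11 : allC witChk 11 8192 = true := by decide +kernel

set_option maxRecDepth 1000000 in
theorem wit_b12 : allC witChk 12 8192 = true := by decide +kernel

set_option maxRecDepth 1000000 in
theorem wit_b13 : allC witChk 13 8192 = true := by decide +kernel

set_option maxRecDepth 1000000 in
theorem wit_b14 : allC witChk 14 8192 = true := by decide +kernel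

set_option maxRecDepth 1000000 in
theorem wit_b15 : allC witChk 15 8192 = true := by decide +kernel

theorem wit_b {e : ℕ} (he : e < 131072) : witChk e = true := by
  refine allC_true (K := 16) (c := 8192) ?_ (by omega)
  intro i hi
  interval_cases i
  · exact wit_b0
  · exact wit_b1
  · exact wit_b2
  · exact wit_b3
  · exact wit_b4
  · exact wit_b5
  · exact wit_b6
  · exact wit_b7
  · exact wit_b8
  · exact wit_b9
  · exact wit_b10
  · exact wit_b11
  · exact wit_b12
  · exact wit_b13
  · exact wit_b14
  · exact wit_b15

set_option maxRecDepth 1000000 in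
theorem nc_b : andB (ncChk 2 6 1) (andB (ncChk 3 6 1) (andB (ncChk 168 13 1)
    (andB (ncChk 169 13 1) (andB (ncChk 170 6 1) (ncChk 171 6 1))))) = true := by decide +kernel

end Cfsg.Agent.Helper9.FiO
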