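import Mathlib
import Cfsg.Agent.Helper9.FiO.Syl

set_option autoImplicit false
set_option Elab.async false

/-! The subgroup of order 131072 of the Fischer group on 3510 points: its elements in normal form,
its order, its centre, and the elements that commute with all its elements up to the central
involution. -/

namespace Cfsg.Agent.Helper9.FiO

open Cfsg.Agent.Helper9.J3 Cfsg.Agent.Helper9.HeO

theorem hG_rel {m k : ℕ} (hm : m < 17) (hk : k < m) :
    hG m * hG k = nfG m (relc m k) * hG m := by
  apply Subtype.ext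
  apply perm_ext
  intro p
  rw [Subgroup.coe_mul, Subgroup.coe_mul, Equiv.Perm.mul_apply, Equiv.Perm.mul_apply,
    nfG_apply (by omega), hG_apply hm, hG_apply (by omega), hG_apply hm]
  have h := allB_true (andB_true (allB_true rel_b hm)).1 hk
  rw [sapp_eq] at h
  have h1 := allB_true h p.isLt
  rw [sapp_eq] at h1
  exact Nat.eq_of_beq_eq_true h1

theorem hG_sq {m : ℕ} (hm : m < 17) : hG m * hG m = nfG m (sqc m) := by
  apply Subtype.ext
  apply perm_ext
  intro p
  rw [Subgroup.coe_mul, Equiv.Perm.mul_apply, nfG_apply (by omega), hG_apply hm, hG_apply hm]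
  have h := (andB_true (allB_true rel_b hm)).2
  rw [sapp_eq] at h
  have h1 := allB_true h p.isLt
  rw [sapp_eq] at h1
  exact Nat.eq_of_beq_eq_true h1

theorem hG_conj {m k : ℕ} (hm : m < 17) (hk : k < m) :
    hG m * hG k * (hG m)⁻¹ = nfG m (relc m k) := by
  rw [hG_rel hm hk, mul_inv_cancel_right]

/-- the subgroups of the chain. -/
def SH (m : ℕ) : Subgroup ↥FiP := chainH hG m

theorem mem_SH {m : ℕ} (hm : m ≤ 17) {x : ↥FiP} (hx : x ∈ SH m) :
    ∃ e, e < 2 ^ m ∧ x = nfG m e := by
  refine mem_chain hG m ?_ x hx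
  intro m' hm'
  constructor
  · intro k hk
    rw [hG_conj (by omega) hk]
    exact nfE_mem hG m' _
  · rw [hG_sq (by omega)]
    exact nfE_mem hG m' _

/-! ### the normal forms are different -/

theorem srt_lt {k : ℕ} (hk : k < 131072) : srt k < 131072 :=
  Nat.lt_succ_of_le (Nat.le_of_ble_eq_true (andB_true (srt_b hk)).1)

theorem srt_step {k : ℕ} (hk : k + 1 < 131072) : sSig (srt k) < sSig (srt (k + 1)) := by
  have h := (andB_true (srt_b (show k < 131072 by omega))).2
  rcases orB_true h with h1 | h1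
  · have := Nat.le_of_ble_eq_true h1
    omega
  · rw [sapp_eq, sapp_eq] at h1
    exact Nat.lt_of_succ_le (Nat.le_of_ble_eq_true h1)

theorem sSig_eq (e : ℕ) : sSig e =
    ((nfG 17 e : Equiv.Perm (Fin nP)) (⟨1714, by norm_num⟩ : Fin nP)).val +
      4096 * (((nfG 17 e : Equiv.Perm (Fin nP)) (⟨823, by norm_num⟩ : Fin nP)).val +
        4096 * ((nfG 17 e : Equiv.Perm (Fin nP)) (⟨621, by norm_num⟩ : Fin nP)).val) := by
  rw [nfG_apply le_rfl, nfG_apply le_rfl, nfG_apply le_rfl]
  rfl

theorem srt_inj {k k' : ℕ} (hk : k < 131072) (hk' : k' < 131072) (h : srt k = srt k') :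
    k = k' := by
  apply inj_of_step (f := fun k => sSig (srt k)) (m := 131072) (fun j hj => srt_step hj) hk hk'
  rw [h]

theorem srt_surj {e : ℕ} (he : e < 131072) : ∃ k, k < 131072 ∧ srt k = e := by
  let f : Fin 131072 → Fin 131072 := fun k => ⟨srt k.val, srt_lt k.isLt⟩
  have hf : Function.Injective f := by
    intro k k' h
    exact Fin.ext (srt_inj k.isLt k'.isLt (congrArg Fin.val h))
  obtain ⟨k, hk⟩ := (Finite.injective_iff_surjective.mp hf) ⟨e, he⟩
  exact ⟨k.val, k.isLt, congrArg Fin.val hk⟩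

theorem sSig_inj {e e' : ℕ} (he : e < 131072) (he' : e' < 131072) (h : sSig e = sSig e') :
    e = e' := by
  obtain ⟨k, hk, rfl⟩ := srt_surj he
  obtain ⟨k', hk', rfl⟩ := srt_surj he'
  have : k = k' :=
    inj_of_step (f := fun k => sSig (srt k)) (m := 131072) (fun j hj => srt_step hj) hk hk' h
  rw [this]

/-- the normal forms are different. -/
theorem nfG_inj {e e' : ℕ} (he : e < 131072) (he' : e' < 131072) (h : nfG 17 e = nfG 17 e') :
    e = e' := by
  apply sSig_inj he he'
  rw [sSig_eq, sSig_eq, h]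

/-- the order of the subgroup. -/
theorem card_SH : Nat.card (SH 17) = 131072 := by
  let f : Fin 131072 → SH 17 := fun e => ⟨nfG 17 e.val, nfE_mem hG 17 _⟩
  have hf : Function.Bijective f := by
    constructor
    · intro e e' h
      have h1 : nfG 17 e.val = nfG 17 e'.val := congrArg Subtype.val h
      exact Fin.ext (nfG_inj e.isLt e'.isLt h1)
    · rintro ⟨x, hx⟩
      obtain ⟨e, he, rfl⟩ := mem_SH le_rfl hx
      exact ⟨⟨e, by norm_num at he; exact he⟩, rfl⟩
  rw [← Nat.card_congr (Equiv.ofBijective f hf), Nat.card_fin]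

/-! ### small normal forms -/

theorem nfE_of_lt {X : Type*} [Group X] (h : ℕ → X) {j e : ℕ} (he : e < 2 ^ j) (k : ℕ)
    (hk : j ≤ k) : nfE h k e = nfE h j e := by
  induction k with
  | zero =>
    have : j = 0 := by omega
    subst this
    rfl
  | succ k ih =>
    rcases Nat.lt_or_ge j (k + 1) with hlt | hge
    · have h2 : e < 2 ^ k :=
        lt_of_lt_of_le he (Nat.pow_le_pow_right (by norm_num) (by omega))
      rw [nfE_succ, ih (by omega), bitT_eq, Nat.testBit_lt_two_pow h2]
      simp
    · have : j = k + 1 := by omega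
      subst this
      rfl

theorem nfE_two (h : ℕ → ↥FiP) (e : ℕ) : nfE h 2 e =
    (if bitT e 1 = true then h 1 else 1) * ((if bitT e 0 = true then h 0 else 1) * 1) := rfl

theorem nfG_zero (m : ℕ) : nfG m 0 = 1 := by
  unfold nfG
  rw [nfE_of_lt hG (j := 0) (by norm_num) m (Nat.zero_le m)]
  rfl

theorem nfG_one {m : ℕ} (hm : 1 ≤ m) : nfG m 1 = hG 0 := by
  unfold nfG
  rw [nfE_of_lt hG (j := 1) (by norm_num) m hm]
  change (if bitT 1 0 = true then hG 0 else 1) * 1 = hG 0
  have h1 : bitT 1 0 = true := rfl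
  rw [if_pos h1, mul_one]

theorem nfG_two {m : ℕ} (hm : 2 ≤ m) : nfG m 2 = hG 1 := by
  unfold nfG
  rw [nfE_of_lt hG (j := 2) (by norm_num) m hm, nfE_two]
  have h1 : bitT 2 1 = true := rfl
  have h0 : bitT 2 0 = false := rfl
  rw [h1, h0]
  simp

theorem nfG_three {m : ℕ} (hm : 2 ≤ m) : nfG m 3 = hG 1 * hG 0 := by
  unfold nfG
  rw [nfE_of_lt hG (j := 2) (by norm_num) m hm, nfE_two]
  have h1 : bitT 3 1 = true := rfl
  have h0 : bitT 3 0 = true := rfl
  rw [h1, h0]
  simp

/-- the involution in the centre. -/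
def zG : ↥FiP := hG 0

theorem hG_one : hG 1 = bG := by
  apply Subtype.ext
  change permW (nthW hWL 1) = P 0
  exact mul_one (P 0)

theorem hG_mem {k : ℕ} (hk : k < 17) : hG k ∈ SH 17 :=
  Subgroup.subset_closure ⟨k, hk, rfl⟩

theorem zG_mem : zG ∈ SH 17 := hG_mem (by norm_num)

theorem bG_mem : bG ∈ SH 17 := by
  rw [← hG_one]
  exact hG_mem (by norm_num)

theorem zG_mul_self : zG * zG = 1 := by
  have h := hG_sq (m := 0) (by norm_num)
  have h0 : sqc 0 = 0 := by decide +kernel
  rw [h0, nfG_zero] at h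
  exact h

theorem zG_inv : zG⁻¹ = zG := inv_eq_of_mul_eq_one_left zG_mul_self

theorem relc_zero {k : ℕ} (hk : k < 17) (hpos : 0 < k) : relc k 0 = 1 := by
  interval_cases k <;> decide +kernel

theorem relc_one {k : ℕ} (hk : k < 17) (hk2 : 2 ≤ k) : relc k 1 = 2 ∨ relc k 1 = 3 := by
  interval_cases k <;> decide +kernel

/-- the involution in the centre commutes with the elements of the subgroup. -/
theorem zG_comm {y : ↥FiP} (hy : y ∈ SH 17) : zG * y = y * zG := by
  refine Subgroup.closure_induction (p := fun y _ => zG * y = y * zG) ?_ ?_ ?_ ?_ hy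
  · rintro y ⟨k, hk, rfl⟩
    rcases Nat.eq_zero_or_pos k with rfl | hpos
    · rfl
    · have h1 := hG_rel hk hpos
      rw [relc_zero hk hpos, nfG_one hpos] at h1
      exact h1.symm
  · rw [mul_one, one_mul]
  · intro x y _ _ hx hy
    rw [← mul_assoc, hx, mul_assoc, hy, mul_assoc]
  · intro x _ hx
    rw [eq_inv_mul_iff_mul_eq, ← mul_assoc, ← hx, mul_inv_cancel_right]

theorem bG_ne_zG : bG ≠ zG := by
  intro h
  have h1 := bG_apply (1 : Fin nP)
  rw [h] at h1
  change ((hG 0 : Equiv.Perm (Fin nP)) 1).val = _ at h1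
  rw [hG_apply (by norm_num)] at h1
  revert h1
  change ¬ (hF 0 1 = tabF 0 1)
  decide +kernel

theorem zG_ne_one : zG ≠ 1 := by
  intro h
  have h1 := hG_apply (m := 0) (by norm_num) (1 : Fin nP)
  change ((zG : Equiv.Perm (Fin nP)) 1).val = _ at h1
  rw [h] at h1
  revert h1
  change ¬ (1 = hF 0 1)
  decide +kernel

/-- the first letter commutes with the elements of the subgroup up to the involution in the
centre. -/
theorem bG_comm {s : ↥FiP} (hs : s ∈ SH 17) : bG * s = s * bG ∨ bG * s = zG * s * bG := by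
  refine Subgroup.closure_induction
    (p := fun s _ => bG * s = s * bG ∨ bG * s = zG * s * bG) ?_ ?_ ?_ ?_ hs
  · rintro y ⟨k, hk, rfl⟩
    rcases Nat.lt_or_ge k 2 with hlt | hge
    · interval_cases k
      · left
        exact (zG_comm bG_mem).symm
      · left
        rw [hG_one]
    · have h1 := hG_rel hk (show 1 < k by omega)
      rcases relc_one hk hge with h2 | h2
      · left
        rw [h2, nfG_two hge, hG_one] at h1
        exact h1.symm
      · right
        rw [h2, nfG_three hge, hG_one] at h1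
        change hG k * bG = bG * zG * hG k at h1
        calc bG * hG k = bG * hG k * (bG * bG) := by rw [bG_mul_self, mul_one]
          _ = bG * (hG k * bG) * bG := by simp only [mul_assoc]
          _ = bG * (bG * zG * hG k) * bG := by rw [h1]
          _ = (bG * bG) * zG * hG k * bG := by simp only [mul_assoc]
          _ = zG * hG k * bG := by rw [bG_mul_self, one_mul]
  · left
    rw [mul_one, one_mul]
  · intro x y hx hy ihx ihy
    rcases ihx with h1 | h1 <;> rcases ihy with h2 | h2
    · left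
      rw [← mul_assoc, h1, mul_assoc, h2, mul_assoc]
    · right
      calc bG * (x * y) = (bG * x) * y := (mul_assoc _ _ _).symm
        _ = x * (bG * y) := by rw [h1, mul_assoc]
        _ = x * (zG * y * bG) := by rw [h2]
        _ = (x * zG) * y * bG := by simp only [mul_assoc]
        _ = (zG * x) * y * bG := by rw [zG_comm hx]
        _ = zG * (x * y) * bG := by simp only [mul_assoc]
    · right
      calc bG * (x * y) = (bG * x) * y := (mul_assoc _ _ _).symm
        _ = zG * x * (bG * y) := by rw [h1, mul_assoc]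
        _ = zG * x * (y * bG) := by rw [h2]
        _ = zG * (x * y) * bG := by simp only [mul_assoc]
    · left
      calc bG * (x * y) = (bG * x) * y := (mul_assoc _ _ _).symm
        _ = zG * x * (bG * y) := by rw [h1, mul_assoc]
        _ = zG * x * (zG * y * bG) := by rw [h2]
        _ = zG * (x * zG) * y * bG := by simp only [mul_assoc]
        _ = zG * (zG * x) * y * bG := by rw [zG_comm hx]
        _ = (zG * zG) * x * y * bG := by simp only [mul_assoc]
        _ = x * y * bG := by rw [zG_mul_self, one_mul]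
  · intro x hx ih
    rcases ih with h1 | h1
    · left
      calc bG * x⁻¹ = x⁻¹ * (x * bG) * x⁻¹ := by group
        _ = x⁻¹ * (bG * x) * x⁻¹ := by rw [h1]
        _ = x⁻¹ * bG := by group
    · right
      calc bG * x⁻¹ = (zG * zG) * bG * x⁻¹ := by rw [zG_mul_self, one_mul]
        _ = zG * (x⁻¹ * (x * zG)) * bG * x⁻¹ := by group
        _ = zG * (x⁻¹ * (zG * x)) * bG * x⁻¹ := by rw [zG_comm hx]
        _ = zG * x⁻¹ * (zG * x * bG) * x⁻¹ := by group
        _ = zG * x⁻¹ * (bG * x) * x⁻¹ := by rw [h1]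
        _ = zG * x⁻¹ * bG := by group

/-! ### the elements that commute with the generators up to the involution in the centre -/

theorem not_comm_of_ncChk {e k p : ℕ} (hk : k < 17) (hp : p < nP) (h : ncChk e k p = true) :
    nfG 17 e * hG k ≠ hG k * nfG 17 e := by
  intro h3
  have h2 := notB_true h
  rw [sapp_eq] at h2
  have h4 := congrArg (fun g : ↥FiP => ((g : Equiv.Perm (Fin nP)) ⟨p, hp⟩).val) h3
  simp only [Subgroup.coe_mul, Equiv.Perm.mul_apply] at h4
  rw [nfG_apply le_rfl, hG_apply hk, hG_apply hk, nfG_apply le_rfl] at h4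
  change nfF 17 e (hF k p) = hF k (nfF 17 e p) at h4
  rw [h4, Nat.beq_refl] at h2
  exact Bool.noConfusion h2

theorem not_commz_of_nzChk {e k q : ℕ} (hk : k < 17) (hq : q < nP) (h : nzChk e k q = true) :
    nfG 17 e * hG k ≠ zG * hG k * nfG 17 e := by
  intro h3
  have h2 := notB_true h
  rw [sapp_eq, sapp_eq] at h2
  have h4 := congrArg (fun g : ↥FiP => ((g : Equiv.Perm (Fin nP)) ⟨q, hq⟩).val) h3
  simp only [Subgroup.coe_mul, Equiv.Perm.mul_apply] at h4
  change _ = ((hG 0 : Equiv.Perm (Fin nP)) _).val at h4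
  rw [nfG_apply le_rfl, hG_apply hk, hG_apply (by norm_num), hG_apply hk, nfG_apply le_rfl] at h4
  change nfF 17 e (hF k q) = hF 0 (hF k (nfF 17 e q)) at h4
  rw [h4, Nat.beq_refl] at h2
  exact Bool.noConfusion h2

/-- an element of the subgroup that commutes with its elements up to the involution in the centre
is one of eight normal forms. -/
theorem spec_of_comm {x : ↥FiP} (hx : x ∈ SH 17)
    (h : ∀ s ∈ SH 17, x * s = s * x ∨ x * s = zG * s * x) :
    ∃ e, spec e = true ∧ x = nfG 17 e := by
  obtain ⟨e, he, rfl⟩ := mem_SH le_rfl hx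
  have he' : e < 131072 := by norm_num at he; exact he
  refine ⟨e, ?_, rfl⟩
  rcases orB_true (wit_b he') with h1 | h1
  · exact h1
  · exfalso
    rw [sapp_eq, sapp_eq, sapp_eq, sapp_eq] at h1
    obtain ⟨hk, h1⟩ := andB_true h1
    obtain ⟨hp, h1⟩ := andB_true h1
    obtain ⟨hq, h1⟩ := andB_true h1
    obtain ⟨h2, h3⟩ := andB_true h1
    have hk' : Nat.land (wit e) 31 < 17 := Nat.lt_succ_of_le (Nat.le_of_ble_eq_true hk)
    have hp' : Nat.land (Nat.shiftRight (wit e) 5) 4095 < nP :=
      Nat.lt_succ_of_le (Nat.le_of_ble_eq_true hp)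
    have hq' : Nat.shiftRight (wit e) 17 < nP := Nat.lt_succ_of_le (Nat.le_of_ble_eq_true hq)
    rcases h _ (hG_mem hk') with h4 | h4
    · exact not_comm_of_ncChk hk' hp' h2 h4
    · exact not_commz_of_nzChk hk' hq' h3 h4

theorem spec_cases {e : ℕ} (h : spec e = true) :
    e = 0 ∨ e = 1 ∨ e = 2 ∨ e = 3 ∨ e = 168 ∨ e = 169 ∨ e = 170 ∨ e = 171 := by
  rcases orB_true h with h1 | h1
  · have := Nat.le_of_ble_eq_true h1
    omega
  · obtain ⟨h2, h3⟩ := andB_true h1
    have := Nat.le_of_ble_eq_true h2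
    have := Nat.le_of_ble_eq_true h3
    omega

/-- the centre of the subgroup consists of the neutral element and one involution. -/
theorem center_SH {x : ↥FiP} (hx : x ∈ SH 17) (hc : ∀ y ∈ SH 17, x * y = y * x) :
    x = 1 ∨ x = zG := by
  obtain ⟨e, he, rfl⟩ := spec_of_comm hx (fun s hs => Or.inl (hc s hs))
  obtain ⟨h2, h⟩ := andB_true nc_b
  obtain ⟨h3, h⟩ := andB_true h
  obtain ⟨h168, h⟩ := andB_true h
  obtain ⟨h169, h⟩ := andB_true h
  obtain ⟨h170, h171⟩ := andB_true h
  rcases spec_cases he with rfl | rfl | rfl | rfl | rfl | rfl | rfl | rfl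
  · exact Or.inl (nfG_zero 17)
  · exact Or.inr (nfG_one (by norm_num))
  · exact absurd (hc _ (hG_mem (by norm_num))) (not_comm_of_ncChk (by norm_num) (by norm_num) h2)
  · exact absurd (hc _ (hG_mem (by norm_num))) (not_comm_of_ncChk (by norm_num) (by norm_num) h3)
  · exact absurd (hc _ (hG_mem (by norm_num)))
      (not_comm_of_ncChk (by norm_num) (by norm_num) h168)
  · exact absurd (hc _ (hG_mem (by norm_num)))
      (not_comm_of_ncChk (by norm_num) (by norm_num) h169)
  · exact absurd (hc _ (hG_mem (by norm_num)))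
      (not_comm_of_ncChk (by norm_num) (by norm_num) h170)
  · exact absurd (hc _ (hG_mem (by norm_num)))
      (not_comm_of_ncChk (by norm_num) (by norm_num) h171)

end Cfsg.Agent.Helper9.FiO
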