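import Mathlib
import Cfsg.Prelude
import Cfsg.Agent.Helper9.FiO.Perm

set_option autoImplicit false
set_option Elab.async false
set_option maxRecDepth 100000

/-!
The Fischer group on 3510 points: if the presented group of Fischer is simple of its order, so is
the group on 3510 points, and the two are isomorphic.
-/

namespace Cfsg.Agent.Helper9.FiO

open Cfsg.Agent.Helper9.J3 Cfsg.Agent.Helper9.PChain Cfsg Cfsg.Spor

/-! ### words with the same action -/

theorem permW_congr {w w' : List ℕ} (hw : ∀ l ∈ w, l < 9) (hw' : ∀ l ∈ w', l < 9)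
    (h : ∀ x, x < nP → evalF w x = evalF w' x) : permW w = permW w' := by
  ext x
  rw [permW_apply, permW_apply, ← evalF_eq w hw, ← evalF_eq w' hw']
  exact h x.val x.isLt

/-- the word of a Coxeter relator. -/
def coxW (i j k : ℕ) : List ℕ := (List.replicate k [i, j]).flatten

theorem permW_coxW (i j k : ℕ) : permW (coxW i j k) = (P i * P j) ^ k := by
  induction k with
  | zero => rfl
  | succ k ih =>
    have e : coxW i j (k + 1) = [i, j] ++ coxW i j k := by
      unfold coxW
      rw [List.replicate_succ, List.flatten_cons]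
    rw [e, permW_append, ih, pow_succ']
    congr 1

/-- the labels of the Coxeter graph. -/
def labL : List (List ℕ) := [[1, 3, 2, 2, 2, 2, 2, 2, 2], [3, 1, 3, 2, 2, 2, 2, 2, 2], [2, 3, 1, 3, 2, 2, 2, 2, 2], [2, 2, 3, 1, 3, 2, 2, 3, 2], [2, 2, 2, 3, 1, 3, 2, 2, 2], [2, 2, 2, 2, 3, 1, 3, 2, 2], [2, 2, 2, 2, 2, 3, 1, 2, 2], [2, 2, 2, 3, 2, 2, 2, 1, 3], [2, 2, 2, 2, 2, 2, 2, 3, 1]]

/-- the label of two letters. -/
def lab (i j : ℕ) : ℕ := (labL.getD i []).getD j 0

/-- the repeated word. -/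
def wpow (w : List ℕ) : ℕ → List ℕ
  | 0 => []
  | n + 1 => w ++ wpow w n

theorem permW_wpow (w : List ℕ) (n : ℕ) : permW (wpow w n) = permW w ^ n := by
  induction n with
  | zero => rfl
  | succ n ih =>
    change permW (w ++ wpow w n) = _
    rw [permW_append, ih, pow_succ']

/-- the pairs of words with the same action: the Coxeter relators and the further relations. -/
def relPairs : List (List ℕ × List ℕ) :=
  ((List.range 9).flatMap fun i => (List.range 9).map fun j => (coxW i j (lab i j), [])) ++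
  [(wpow [3, 2, 1, 3, 4, 5, 3, 7, 8] 10, []), (wpow [0, 1, 2, 3, 4, 5, 7] 9, []),
    (wpow [1, 2, 3, 4, 5, 6, 7] 9, [])]

theorem relPairs_letters : ∀ p ∈ relPairs, (∀ l ∈ p.1, l < 9) ∧ ∀ l ∈ p.2, l < 9 := by
  decide

set_option maxRecDepth 1000000 in
theorem relPairs_ok_b : relPairs.all (fun p =>
    allB (fun x => Nat.beq (evalF p.1 x) (evalF p.2 x)) nP) = true := by
  decide +kernel

theorem relPairs_ok {p : List ℕ × List ℕ} (hp : p ∈ relPairs) : permW p.1 = permW p.2 := by
  obtain ⟨h1, h2⟩ := relPairs_letters p hp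
  apply permW_congr h1 h2
  intro x hx
  exact Nat.eq_of_beq_eq_true (allB_true (List.all_eq_true.1 relPairs_ok_b p hp) hx)

theorem cox_mem : ∀ i j : Fin 9, (coxW i.val j.val (lab i.val j.val), []) ∈ relPairs := by
  decide

theorem cox_rel (i j : Fin 9) : (P i.val * P j.val) ^ lab i.val j.val = 1 := by
  rw [← permW_coxW]
  exact relPairs_ok (cox_mem i j)

/-! ### the homomorphism from the presented group -/

/-- the number of a generator. -/
def idx : Fi22.Gen → Fin 9
  | .a => 0
  | .b => 1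
  | .c => 2
  | .d => 3
  | .e => 4
  | .f => 5
  | .g => 6
  | .h => 7
  | .i => 8

theorem idx_surj : Function.Surjective idx := by
  intro i
  fin_cases i
  · exact ⟨.a, rfl⟩
  · exact ⟨.b, rfl⟩
  · exact ⟨.c, rfl⟩
  · exact ⟨.d, rfl⟩
  · exact ⟨.e, rfl⟩
  · exact ⟨.f, rfl⟩
  · exact ⟨.g, rfl⟩
  · exact ⟨.h, rfl⟩
  · exact ⟨.i, rfl⟩

/-- the images of the generators. -/
def fGen (x : Fi22.Gen) : Equiv.Perm (Fin nP) := P (idx x).val

theorem coxLabel_eq (x y : Fi22.Gen) : coxLabel Fi22.edges x y = lab (idx x).val (idx y).val := by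
  cases x <;> cases y <;> rfl

theorem permW_one (a : ℕ) : permW [a] = P a := mul_one (P a)

theorem permW_nil : permW [] = 1 := rfl

theorem rel_e1 : (P 3 * P 2 * P 1 * P 3 * P 4 * P 5 * P 3 * P 7 * P 8) ^ 10 = 1 := by
  have h := relPairs_ok (p := (wpow [3, 2, 1, 3, 4, 5, 3, 7, 8] 10, [])) (by decide)
  have e2 : permW [3, 2, 1, 3, 4, 5, 3, 7, 8] =
      P 3 * P 2 * P 1 * P 3 * P 4 * P 5 * P 3 * P 7 * P 8 := by
    simp only [permW_cons, permW_nil, mul_one, mul_assoc]
  rw [← e2, ← permW_wpow]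
  exact h

theorem rel_e2 : (P 0 * P 1 * P 2 * P 3 * P 4 * P 5 * P 7) ^ 9 = 1 := by
  have h := relPairs_ok (p := (wpow [0, 1, 2, 3, 4, 5, 7] 9, [])) (by decide)
  have e2 : permW [0, 1, 2, 3, 4, 5, 7] = P 0 * P 1 * P 2 * P 3 * P 4 * P 5 * P 7 := by
    simp only [permW_cons, permW_nil, mul_one, mul_assoc]
  rw [← e2, ← permW_wpow]
  exact h

theorem rel_e3 : (P 1 * P 2 * P 3 * P 4 * P 5 * P 6 * P 7) ^ 9 = 1 := by
  have h := relPairs_ok (p := (wpow [1, 2, 3, 4, 5, 6, 7] 9, [])) (by decide)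
  have e2 : permW [1, 2, 3, 4, 5, 6, 7] = P 1 * P 2 * P 3 * P 4 * P 5 * P 6 * P 7 := by
    simp only [permW_cons, permW_nil, mul_one, mul_assoc]
  rw [← e2, ← permW_wpow]
  exact h

theorem fGen_rels : ∀ r ∈ coxRelators Fi22.edges ∪ {r | r ∈ Fi22.extra}, FreeGroup.lift fGen r = 1 := by
  rintro r (⟨x, -, y, -, rfl⟩ | hr)
  · rw [map_pow, map_mul, FreeGroup.lift_apply_of, FreeGroup.lift_apply_of, coxLabel_eq]
    exact cox_rel (idx x) (idx y)
  · change r ∈ Fi22.extra at hr
    unfold Fi22.extra at hr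
    simp only [List.mem_cons, List.not_mem_nil, or_false] at hr
    rcases hr with rfl | rfl | rfl
    · simp only [map_pow, map_mul, FreeGroup.lift_apply_of]
      exact rel_e1
    · simp only [map_pow, map_mul, FreeGroup.lift_apply_of]
      exact rel_e2
    · simp only [map_pow, map_mul, FreeGroup.lift_apply_of]
      exact rel_e3

/-- the homomorphism from the presented group of Fischer to the permutations of 3510 points. -/
def phi : Fi22 →* Equiv.Perm (Fin nP) := PresentedGroup.toGroup fGen_rels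

theorem phi_of (x : Fi22.Gen) : phi (PresentedGroup.of x) = fGen x :=
  PresentedGroup.toGroup.of fGen_rels

theorem range_phi : phi.range = FiP := by
  have h1 : (⊤ : Subgroup Fi22) = Subgroup.closure (Set.range (PresentedGroup.of (rels :=
      coxRelators Fi22.edges ∪ {r | r ∈ Fi22.extra}))) := (PresentedGroup.closure_range_of _).symm
  rw [MonoidHom.range_eq_map, h1, MonoidHom.map_closure]
  unfold FiP
  congr 1
  ext σ
  constructor
  · rintro ⟨_, ⟨x, rfl⟩, rfl⟩
    exact ⟨idx x, (phi_of x).symm⟩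
  · rintro ⟨i, rfl⟩
    obtain ⟨x, rfl⟩ := idx_surj i
    exact ⟨PresentedGroup.of x, ⟨x, rfl⟩, phi_of x⟩

theorem P_one_ne : P 1 ≠ 1 := by
  intro h
  have := congrArg (fun σ : Equiv.Perm (Fin nP) => (σ 0).val) h
  revert this
  decide +kernel

theorem phi_injective (hs : IsSimpleGroup Fi22) : Function.Injective phi := by
  rw [← MonoidHom.ker_eq_bot_iff]
  rcases hs.eq_bot_or_eq_top_of_normal phi.ker inferInstance with h | h
  · exact h
  · exfalso
    apply P_one_ne
    have : PresentedGroup.of (rels := coxRelators Fi22.edges ∪ {r | r ∈ Fi22.extra}) Fi22.Gen.b ∈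
        phi.ker := by
      rw [h]
      exact Subgroup.mem_top _
    rw [MonoidHom.mem_ker, phi_of] at this
    exact this

/-- the group on 3510 points is isomorphic to the presented group. -/
theorem FiP_iso (hs : IsSimpleGroup Fi22) : Nonempty (Fi22 ≃* ↥FiP) := by
  have e := MonoidHom.ofInjective (phi_injective hs)
  rw [range_phi] at e
  exact ⟨e⟩

theorem isFi22_FiP (h : IsFi22 Fi22) : IsFi22 ↥FiP := by
  obtain ⟨e⟩ := FiP_iso h.1
  have := h.1
  exact ⟨e.symm.isSimpleGroup, by rw [← Nat.card_congr e.toEquiv]; exact h.2⟩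

end Cfsg.Agent.Helper9.FiO
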