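import Mathlib
import Cfsg.Prelude
import Cfsg.Agent.Helper9.Fi22U.Hom
import Cfsg.Agent.Helper9.FiO.Iso
import Cfsg.Agent.Helper9.FiO.Base
import Cfsg.Agent.Helper9.HeO.Abs

set_option autoImplicit false
set_option Elab.async false

/-! The first letter of the Fischer group on 3510 points has at most 3510 conjugates: in the
presented group the subgroup of index 3510 centralizes the first generator. -/

namespace Cfsg.Agent.Helper9.FiO

open Cfsg.Agent.Helper9.J3 Cfsg.Agent.Helper9.HeO Cfsg Cfsg.Spor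

/-- the presented group is simple of its order. -/
theorem isFi22 : IsFi22 Fi22 := Cfsg.Agent.S1696.result

theorem phi_inj : Function.Injective phi := phi_injective isFi22.1

theorem card_FiP : Nat.card ↥FiP = 64561751654400 := (isFi22_FiP isFi22).2

/-- the words of the generators of the subgroup of index 3510, other than the first. -/
def cgL : List (List ℕ) := [[2], [3], [4], [5], [6], [7], [8], wpow [0, 1, 2, 3, 4, 7] 5]

theorem cgL_letters : ∀ w ∈ cgL, ∀ l ∈ w, l < 9 := by decide

set_option maxRecDepth 1000000 in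
theorem cgL_comm_b : cgL.all (fun w =>
    allB (fun x => Nat.beq (evalF w (tabF 0 x)) (sapp (tabF 0) (evalF w x))) nP) = true := by
  decide +kernel

theorem cgL_comm {w : List ℕ} (hw : w ∈ cgL) : permW w * P 0 = P 0 * permW w := by
  apply perm_ext
  intro p
  rw [Equiv.Perm.mul_apply, Equiv.Perm.mul_apply, permW_val _ (cgL_letters w hw), P_apply,
    tab_of_lt (by norm_num), P_apply, tab_of_lt (by norm_num), permW_val _ (cgL_letters w hw)]
  have h := allB_true (List.all_eq_true.1 cgL_comm_b w hw) p.isLt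
  rw [sapp_eq] at h
  exact Nat.eq_of_beq_eq_true h

/-- the first generator of the presented group. -/
def gA : Fi22 := PresentedGroup.of Fi22.Gen.a

theorem phi_gA : phi gA = P 0 := phi_of Fi22.Gen.a

theorem comm_of_phi {x : Fi22} (h : phi x * P 0 = P 0 * phi x) : x * gA = gA * x := by
  apply phi_inj
  rw [map_mul, map_mul, phi_gA]
  exact h

theorem phi_mk_of (x : Fi22.Gen) :
    phi (PresentedGroup.mk Cfsg.Agent.Helper9.Fi22U.rels (FreeGroup.of x)) = P (idx x).val :=
  phi_of x

/-- the subgroup of index 3510 centralizes the first generator. -/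
theorem HS_le : Cfsg.Agent.Helper9.Fi22U.HS ≤ Subgroup.centralizer ({gA} : Set Fi22) := by
  unfold Cfsg.Agent.Helper9.Fi22U.HS
  rw [Subgroup.map_le_iff_le_comap, Subgroup.closure_le]
  intro g hg
  change PresentedGroup.mk Cfsg.Agent.Helper9.Fi22U.rels g ∈ Subgroup.centralizer ({gA} : Set Fi22)
  rw [Subgroup.mem_centralizer_singleton_iff]
  apply comm_of_phi
  simp only [Set.mem_insert_iff, Set.mem_singleton_iff] at hg
  have h1 : ∀ l : ℕ, permW [l] = P l := fun l => mul_one (P l)
  rcases hg with rfl | rfl | rfl | rfl | rfl | rfl | rfl | rfl | rfl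
  · rw [phi_mk_of]
    rfl
  · rw [phi_mk_of, ← h1]
    exact cgL_comm (by decide)
  · rw [phi_mk_of, ← h1]
    exact cgL_comm (by decide)
  · rw [phi_mk_of, ← h1]
    exact cgL_comm (by decide)
  · rw [phi_mk_of, ← h1]
    exact cgL_comm (by decide)
  · rw [phi_mk_of, ← h1]
    exact cgL_comm (by decide)
  · rw [phi_mk_of, ← h1]
    exact cgL_comm (by decide)
  · rw [phi_mk_of, ← h1]
    exact cgL_comm (by decide)
  · have e : phi (PresentedGroup.mk Cfsg.Agent.Helper9.Fi22U.rels
        ((Fi22.a * Fi22.b * Fi22.c * Fi22.d * Fi22.e * Fi22.h) ^ 5)) =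
        permW (wpow [0, 1, 2, 3, 4, 7] 5) := by
      rw [permW_wpow]
      simp only [map_pow, map_mul, Fi22.a, Fi22.b, Fi22.c, Fi22.d, Fi22.e, Fi22.h, phi_mk_of]
      simp only [permW_cons, permW_nil, mul_one, mul_assoc]
      rfl
    rw [e]
    exact cgL_comm (by decide)

/-- the first generator of the presented group has at most 3510 conjugates. -/
theorem card_class_gA_le : {y : Fi22 | ∃ g : Fi22, g * gA * g⁻¹ = y}.ncard ≤ 3510 := by
  have hc : Nat.card Fi22 = 64561751654400 := isFi22.2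
  have : Finite Fi22 := Nat.finite_of_card_ne_zero (by rw [hc]; norm_num)
  have h1 := card_class_mul gA
  have h2 := Subgroup.index_mul_card Cfsg.Agent.Helper9.Fi22U.HS
  rw [Cfsg.Agent.Helper9.Fi22U.index_HS] at h2
  have h3 := Subgroup.card_le_of_le HS_le
  have h4 : 0 < Nat.card (Subgroup.centralizer ({gA} : Set Fi22)) := Nat.card_pos
  set c := Nat.card (Subgroup.centralizer ({gA} : Set Fi22)) with hcdef
  set k := {y : Fi22 | ∃ g : Fi22, g * gA * g⁻¹ = y}.ncard with hkdef
  set m := Nat.card ↥Cfsg.Agent.Helper9.Fi22U.HS with hmdef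
  by_contra hk
  rw [not_le] at hk
  have h5 : c * k > 3510 * m := by
    calc 3510 * m ≤ 3510 * c := Nat.mul_le_mul_left _ h3
      _ = c * 3510 := Nat.mul_comm _ _
      _ < c * k := Nat.mul_lt_mul_of_pos_left hk h4
  omega

/-- the homomorphism from the presented group onto the group on 3510 points. -/
def psi : Fi22 →* ↥FiP := phi.codRestrict FiP (fun x => by rw [← range_phi]; exact ⟨x, rfl⟩)

theorem psi_val (x : Fi22) : (psi x).1 = phi x := rfl

theorem psi_gA : psi gA = bG := Subtype.ext phi_gA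

theorem psi_surj : Function.Surjective psi := by
  rintro ⟨y, hy⟩
  rw [← range_phi] at hy
  obtain ⟨x, rfl⟩ := hy
  exact ⟨x, rfl⟩

/-- the first letter has at most 3510 conjugates. -/
theorem card_class_le : {y : ↥FiP | ∃ g : ↥FiP, g * bG * g⁻¹ = y}.ncard ≤ 3510 := by
  have hc : Nat.card Fi22 = 64561751654400 := isFi22.2
  have : Finite Fi22 := Nat.finite_of_card_ne_zero (by rw [hc]; norm_num)
  have hsub : {y : ↥FiP | ∃ g : ↥FiP, g * bG * g⁻¹ = y} ⊆
      psi '' {y : Fi22 | ∃ g : Fi22, g * gA * g⁻¹ = y} := by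
    rintro y ⟨g, rfl⟩
    obtain ⟨g', rfl⟩ := psi_surj g
    refine ⟨g' * gA * g'⁻¹, ⟨g', rfl⟩, ?_⟩
    rw [map_mul, map_mul, map_inv, psi_gA]
  calc {y : ↥FiP | ∃ g : ↥FiP, g * bG * g⁻¹ = y}.ncard
      ≤ (psi '' {y : Fi22 | ∃ g : Fi22, g * gA * g⁻¹ = y}).ncard :=
        Set.ncard_le_ncard hsub (Set.toFinite _)
    _ ≤ {y : Fi22 | ∃ g : Fi22, g * gA * g⁻¹ = y}.ncard := Set.ncard_image_le (Set.toFinite _)
    _ ≤ 3510 := card_class_gA_le

end Cfsg.Agent.Helper9.FiO
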