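import Mathlib
import Cfsg.Agent.Helper9.FiO.Base
import Cfsg.Agent.Helper9.HeO.Abs

set_option autoImplicit false
set_option Elab.async false
set_option linter.unusedSectionVars false

/-! Lists of conjugates of an element of the Fischer group on 3510 points: each is the conjugate
under a power of the element of order thirteen of a representative, and a representative is
obtained from the element by conjugations with powers of the element of order thirteen followed by
the first letter; the conjugates of a list are different because their signatures increase. -/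

namespace Cfsg.Agent.Helper9.FiO

open Cfsg.Agent.Helper9.J3 Cfsg.Agent.Helper9.HeO

/-- the data of a list of conjugates: the images of the points under the element, the codes of the
representatives, the entries sorted by signature, the points of the signature, the number of
representatives and the number of entries. -/
structure LData where
  /-- the images of the points under the element. -/
  f0 : ℕ → ℕ
  /-- the codes of the representatives. -/
  repT : ℕ
  /-- the entries sorted by signature. -/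
  lstL : List ℕ
  /-- the points of the signature. -/
  pts : List ℕ
  /-- the number of representatives. -/
  J : ℕ
  /-- the number of entries. -/
  N : ℕ

/-- the code of a representative. -/
def repc (D : LData) (j : ℕ) : ℕ := lkF 24 16777215 D.repT j

/-- a digit of the code of a representative. -/
def digC (c k : ℕ) : ℕ := Nat.land (Nat.shiftRight c (Nat.add 3 (Nat.mul 4 k))) 15

/-- the image of a point under the representative with the first digits of a code. -/
def repFn (f0 : ℕ → ℕ) (c n p : ℕ) : ℕ :=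
  Nat.rec (motive := fun _ => ℕ → ℕ) (fun p => f0 p)
    (fun k ih p => tabF 0 (aF (Nat.sub 13 (digC c k)) (ih (aF (digC c k) (tabF 0 p))))) n p

theorem repFn_succ (f0 : ℕ → ℕ) (c n p : ℕ) : repFn f0 c (n + 1) p =
    tabF 0 (aF (Nat.sub 13 (digC c n)) (repFn f0 c n (aF (digC c n) (tabF 0 p)))) := rfl

/-- the representative with the first digits of a code. -/
def repEn (y0 : ↥FiP) (c n : ℕ) : ↥FiP :=
  Nat.rec y0 (fun k ih => bG * (aG ^ digC c k)⁻¹ * ih * aG ^ digC c k * bG) n

theorem repEn_succ (y0 : ↥FiP) (c n : ℕ) : repEn y0 c (n + 1) =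
    bG * (aG ^ digC c n)⁻¹ * repEn y0 c n * aG ^ digC c n * bG := rfl

/-- the image of a point under the representative of a code. -/
def repF (f0 : ℕ → ℕ) (c p : ℕ) : ℕ := repFn f0 c (Nat.land c 7) p

/-- the representative of a code. -/
def repE (y0 : ↥FiP) (c : ℕ) : ↥FiP := repEn y0 c (Nat.land c 7)

/-- the check of the digits of a code. -/
def digOk (c : ℕ) : Bool := allB (fun k => Nat.ble (digC c k) 13) (Nat.land c 7)

theorem repEn_apply {f0 : ℕ → ℕ} {y0 : ↥FiP}
    (hy0 : ∀ p : Fin nP, ((y0 : Equiv.Perm (Fin nP)) p).val = f0 p.val) (c n : ℕ)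
    (h : ∀ k, k < n → digC c k ≤ 13) (p : Fin nP) :
    ((repEn y0 c n : Equiv.Perm (Fin nP)) p).val = repFn f0 c n p.val := by
  induction n generalizing p with
  | zero => exact hy0 p
  | succ n ih =>
    have hd : digC c n ≤ 13 := h n (Nat.lt_succ_self n)
    have ih' := ih (fun k hk => h k (Nat.lt_succ_of_lt hk))
    rw [repEn_succ, repFn_succ, Subgroup.coe_mul, Subgroup.coe_mul, Subgroup.coe_mul,
      Subgroup.coe_mul, Equiv.Perm.mul_apply, Equiv.Perm.mul_apply, Equiv.Perm.mul_apply,
      Equiv.Perm.mul_apply, bG_apply, aG_pow_inv_apply hd, ih', aG_pow_apply _ hd, bG_apply]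
    rfl

theorem repE_apply {f0 : ℕ → ℕ} {y0 : ↥FiP}
    (hy0 : ∀ p : Fin nP, ((y0 : Equiv.Perm (Fin nP)) p).val = f0 p.val) {c : ℕ}
    (h : digOk c = true) (p : Fin nP) :
    ((repE y0 c : Equiv.Perm (Fin nP)) p).val = repF f0 c p.val :=
  repEn_apply hy0 c _ (fun _ hk => Nat.le_of_ble_eq_true (allB_true h hk)) p

theorem repEn_conj (y0 : ↥FiP) (c n : ℕ) : ∃ g : ↥FiP, g * y0 * g⁻¹ = repEn y0 c n := by
  induction n with
  | zero => exact ⟨1, by rw [one_mul, inv_one, mul_one]; rfl⟩
  | succ n ih =>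
    obtain ⟨g, hg⟩ := ih
    refine ⟨bG * (aG ^ digC c n)⁻¹ * g, ?_⟩
    rw [repEn_succ, ← hg]
    have hb : bG⁻¹ = bG := bG_inv
    calc bG * (aG ^ digC c n)⁻¹ * g * y0 * (bG * (aG ^ digC c n)⁻¹ * g)⁻¹
        = bG * (aG ^ digC c n)⁻¹ * (g * y0 * g⁻¹) * aG ^ digC c n * bG⁻¹ := by group
      _ = _ := by rw [hb]

/-- the image of a point under the conjugate of the representative of a code by a power of the
element of order thirteen. -/
def yC (f0 : ℕ → ℕ) (c i p : ℕ) : ℕ := aF (Nat.sub 13 i) (sapp (repF f0 c) (aF i p))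

/-- the signature of a conjugate, from the code of the representative. -/
def sigC (f0 : ℕ → ℕ) (pts : List ℕ) (c i : ℕ) : ℕ :=
  List.rec 0 (fun p _ acc => Nat.add (yC f0 c i p) (Nat.mul 4096 acc)) pts

/-- the signature of a conjugate. -/
def sigOf (D : LData) (j i : ℕ) : ℕ := sapp (fun c => sigC D.f0 D.pts c i) (repc D j)

/-- the entry of the sorted list. -/
def ent (D : LData) (k : ℕ) : ℕ :=
  lkF 18 262143 (nthL D.lstL (Nat.shiftRight k 11)) (Nat.land k 2047)

/-- the number of the representative of an entry. -/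
def entJ (D : LData) (k : ℕ) : ℕ := Nat.shiftRight (ent D k) 4

/-- the exponent of an entry. -/
def entI (D : LData) (k : ℕ) : ℕ := Nat.land (ent D k) 15

/-- the signature of an entry. -/
def sigK (D : LData) (k : ℕ) : ℕ :=
  sapp (fun e => sigOf D (Nat.shiftRight e 4) (Nat.land e 15)) (ent D k)

theorem sigK_eq (D : LData) (k : ℕ) : sigK D k = sigOf D (entJ D k) (entI D k) := sapp_eq _ _

/-- the check that the signatures increase. -/
def stepChk (D : LData) (k : ℕ) : Bool :=
  orB (Nat.ble D.N (Nat.succ k)) (Nat.ble (Nat.succ (sigK D k)) (sigK D (Nat.succ k)))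

/-- the check of the range of the entries. -/
def rngChk (D : LData) (k : ℕ) : Bool :=
  andB (Nat.ble (Nat.succ (entJ D k)) D.J) (Nat.ble (entI D k) 13)

/-- the check of the points of the signature. -/
def ptsOk (pts : List ℕ) : Bool := List.rec true (fun p _ ih => andB (Nat.ble p 3509) ih) pts

/-- the check of a list. -/
def chkAll (D : LData) : Bool :=
  andB (ptsOk D.pts) (andB (allB (rngChk D) D.N)
    (andB (allB (fun j => digOk (repc D j)) D.J) (allB (stepChk D) D.N)))

/-- the value of a permutation at a number. -/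
def valAt (σ : Equiv.Perm (Fin nP)) (p : ℕ) : ℕ := if h : p < nP then (σ ⟨p, h⟩).val else 0

/-- the signature of a permutation. -/
def sigP (σ : Equiv.Perm (Fin nP)) (pts : List ℕ) : ℕ :=
  pts.foldr (fun p acc => valAt σ p + 4096 * acc) 0

theorem sigC_eq (f0 : ℕ → ℕ) (c i : ℕ) (σ : Equiv.Perm (Fin nP))
    (hσ : ∀ p : Fin nP, (σ p).val = yC f0 c i p.val) (pts : List ℕ) (hp : ptsOk pts = true) :
    sigC f0 pts c i = sigP σ pts := by
  induction pts with
  | nil => rfl
  | cons p ps ih =>
    have hp' : andB (Nat.ble p 3509) (ptsOk ps) = true := hp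
    obtain ⟨h1, h2⟩ := andB_true hp'
    have hlt : p < nP := Nat.lt_succ_of_le (Nat.le_of_ble_eq_true h1)
    change yC f0 c i p + 4096 * sigC f0 ps c i = valAt σ p + 4096 * sigP σ ps
    rw [ih h2]
    unfold valAt
    rw [dif_pos hlt, hσ]

section list

variable (D : LData) (y0 : ↥FiP)

/-- the representative. -/
def repG (j : ℕ) : ↥FiP := repE y0 (repc D j)

/-- the conjugate of a representative by a power of the element of order thirteen. -/
def yG (j i : ℕ) : ↥FiP := (aG ^ i)⁻¹ * repG D y0 j * aG ^ i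

/-- the conjugate of an entry of the list. -/
def yK (k : ℕ) : ↥FiP := yG D y0 (entJ D k) (entI D k)

theorem repG_conj (j : ℕ) : ∃ g : ↥FiP, g * y0 * g⁻¹ = repG D y0 j := repEn_conj _ _ _

theorem yG_conj (j i : ℕ) : ∃ g : ↥FiP, g * y0 * g⁻¹ = yG D y0 j i := by
  obtain ⟨g, hg⟩ := repG_conj D y0 j
  refine ⟨(aG ^ i)⁻¹ * g, ?_⟩
  unfold yG
  rw [← hg]
  group

variable (hy0 : ∀ p : Fin nP, ((y0 : Equiv.Perm (Fin nP)) p).val = D.f0 p.val)
  (hD : chkAll D = true)

include hy0 hD

theorem entJ_lt {k : ℕ} (hk : k < D.N) : entJ D k < D.J :=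
  Nat.lt_of_succ_le (Nat.le_of_ble_eq_true
    (andB_true (allB_true (andB_true (andB_true hD).2).1 hk)).1)

theorem entI_le {k : ℕ} (hk : k < D.N) : entI D k ≤ 13 :=
  Nat.le_of_ble_eq_true (andB_true (allB_true (andB_true (andB_true hD).2).1 hk)).2

theorem digOk_repc {j : ℕ} (hj : j < D.J) : digOk (repc D j) = true :=
  allB_true (andB_true (andB_true (andB_true hD).2).2).1 hj

theorem step_all {k : ℕ} (hk : k + 1 < D.N) : sigK D k < sigK D (k + 1) := by
  have h := allB_true (andB_true (andB_true (andB_true hD).2).2).2 (show k < D.N by omega)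
  rcases orB_true h with h1 | h1
  · have := Nat.le_of_ble_eq_true h1
    omega
  · exact Nat.lt_of_succ_le (Nat.le_of_ble_eq_true h1)

theorem repG_apply {j : ℕ} (hj : j < D.J) (p : Fin nP) :
    ((repG D y0 j : Equiv.Perm (Fin nP)) p).val = repF D.f0 (repc D j) p.val :=
  repE_apply hy0 (digOk_repc D y0 hy0 hD hj) p

theorem yG_apply {j i : ℕ} (hj : j < D.J) (hi : i ≤ 13) (p : Fin nP) :
    ((yG D y0 j i : Equiv.Perm (Fin nP)) p).val = yC D.f0 (repc D j) i p.val := by
  unfold yG yC
  rw [Subgroup.coe_mul, Subgroup.coe_mul, Equiv.Perm.mul_apply, Equiv.Perm.mul_apply,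
    aG_pow_inv_apply hi, repG_apply D y0 hy0 hD hj, aG_pow_apply _ hi, sapp_eq]
  rfl

theorem sig_yG {j i : ℕ} (hj : j < D.J) (hi : i ≤ 13) :
    sigOf D j i = sigP (yG D y0 j i : Equiv.Perm (Fin nP)) D.pts := by
  unfold sigOf
  rw [sapp_eq]
  exact sigC_eq D.f0 (repc D j) i _ (yG_apply D y0 hy0 hD hj hi) D.pts (andB_true hD).1

theorem yK_inj {k k' : ℕ} (hk : k < D.N) (hk' : k' < D.N) (h : yK D y0 k = yK D y0 k') :
    k = k' := by
  apply inj_of_step (f := sigK D) (m := D.N) ?_ hk hk'
  · rw [sigK_eq, sigK_eq, sig_yG D y0 hy0 hD (entJ_lt D y0 hy0 hD hk) (entI_le D y0 hy0 hD hk),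
      sig_yG D y0 hy0 hD (entJ_lt D y0 hy0 hD hk') (entI_le D y0 hy0 hD hk')]
    unfold yK at h
    rw [h]
  · intro j hj
    exact step_all D y0 hy0 hD hj

/-- the element has at least as many conjugates as the list has entries. -/
theorem le_ncard_class [Finite ↥FiP] :
    D.N ≤ {y : ↥FiP | ∃ g : ↥FiP, g * y0 * g⁻¹ = y}.ncard := by
  let f : Fin D.N → {y : ↥FiP // ∃ g : ↥FiP, g * y0 * g⁻¹ = y} :=
    fun k => ⟨yK D y0 k.val, yG_conj D y0 _ _⟩
  have hf : Function.Injective f := by
    intro k k' h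
    exact Fin.ext (yK_inj D y0 hy0 hD k.isLt k'.isLt (congrArg Subtype.val h))
  have h1 := Nat.card_le_card_of_injective f hf
  rw [Nat.card_fin] at h1
  exact h1

/-- when the element has at most as many conjugates as the list has entries, every conjugate is in
the list. -/
theorem exists_entry [Finite ↥FiP]
    (hle : {y : ↥FiP | ∃ g : ↥FiP, g * y0 * g⁻¹ = y}.ncard ≤ D.N) (y : ↥FiP)
    (hy : ∃ g : ↥FiP, g * y0 * g⁻¹ = y) : ∃ k, k < D.N ∧ y = yK D y0 k := by
  let f : Fin D.N → {y : ↥FiP // ∃ g : ↥FiP, g * y0 * g⁻¹ = y} :=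
    fun k => ⟨yK D y0 k.val, yG_conj D y0 _ _⟩
  have hf : Function.Injective f := by
    intro k k' h
    exact Fin.ext (yK_inj D y0 hy0 hD k.isLt k'.isLt (congrArg Subtype.val h))
  have hb : Function.Bijective f := by
    apply Function.Injective.bijective_of_nat_card_le hf
    rw [Nat.card_fin]
    exact hle
  obtain ⟨k, hk⟩ := hb.2 ⟨y, hy⟩
  exact ⟨k.val, k.isLt, (congrArg Subtype.val hk).symm⟩

/-- every conjugate is conjugate under a power of the element of order thirteen to a
representative. -/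
theorem exists_rep [Finite ↥FiP]
    (hle : {y : ↥FiP | ∃ g : ↥FiP, g * y0 * g⁻¹ = y}.ncard ≤ D.N) (y : ↥FiP)
    (hy : ∃ g : ↥FiP, g * y0 * g⁻¹ = y) :
    ∃ i : ℕ, ∃ j, j < D.J ∧ aG ^ i * y * (aG ^ i)⁻¹ = repG D y0 j := by
  obtain ⟨k, hk, rfl⟩ := exists_entry D y0 hy0 hD hle y hy
  refine ⟨entI D k, entJ D k, entJ_lt D y0 hy0 hD hk, ?_⟩
  unfold yK yG
  group

end list

end Cfsg.Agent.Helper9.FiO
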