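import Mathlib
import Cfsg.Agent.Helper9.FiO.Cen
import Cfsg.Agent.Helper9.FiO.Lst
import Cfsg.Agent.Helper9.FiO.Cls
import Cfsg.Agent.Helper9.FiO.DataC

set_option autoImplicit false
set_option Elab.async false

/-! The list of the 3510 conjugates of the first letter in the Fischer group on 3510 points; lists
of 3523 conjugates of four more involutions; every automorphism maps the first letter to a
conjugate of it. -/

namespace Cfsg.Agent.Helper9.FiO

open Cfsg.Agent.Helper9.J3 Cfsg.Agent.Helper9.HeO

/-- the list of the conjugates of the first letter. -/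
def DB : LData := ⟨tabF 0, repB, [lstB_0, lstB_1], [1326, 1870, 2229, 661, 2154], 270, 3510⟩

/-- a list of conjugates of an involution. -/
def D168 : LData := ⟨nfF 17 168, rep168, [lst168_0, lst168_1], [286, 2956, 3338], 271, 3523⟩

/-- a list of conjugates of an involution. -/
def D169 : LData := ⟨nfF 17 169, rep169, [lst169_0, lst169_1], [482, 590, 1335], 271, 3523⟩

/-- a list of conjugates of an involution. -/
def D170 : LData := ⟨nfF 17 170, rep170, [lst170_0, lst170_1], [3440, 1361, 1335], 271, 3523⟩

/-- a list of conjugates of an involution. -/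
def D171 : LData := ⟨nfF 17 171, rep171, [lst171_0, lst171_1], [2294, 1640, 1335], 271, 3523⟩

set_option maxRecDepth 1000000 in
theorem DB_ok : chkAll DB = true := by decide +kernel

set_option maxRecDepth 1000000 in
theorem D168_ok : chkAll D168 = true := by decide +kernel

set_option maxRecDepth 1000000 in
theorem D169_ok : chkAll D169 = true := by decide +kernel

set_option maxRecDepth 1000000 in
theorem D170_ok : chkAll D170 = true := by decide +kernel

set_option maxRecDepth 1000000 in
theorem D171_ok : chkAll D171 = true := by decide +kernel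

theorem finite_FiP : Finite ↥FiP := Nat.finite_of_card_ne_zero (by rw [card_FiP]; norm_num)

theorem nfG_fn (e : ℕ) (p : Fin nP) :
    ((nfG 17 e : Equiv.Perm (Fin nP)) p).val = nfF 17 e p.val := nfG_apply le_rfl e p

theorem big_168 : 3523 ≤ {y : ↥FiP | ∃ g : ↥FiP, g * nfG 17 168 * g⁻¹ = y}.ncard :=
  have := finite_FiP
  le_ncard_class D168 (nfG 17 168) (nfG_fn 168) D168_ok

theorem big_169 : 3523 ≤ {y : ↥FiP | ∃ g : ↥FiP, g * nfG 17 169 * g⁻¹ = y}.ncard :=
  have := finite_FiP
  le_ncard_class D169 (nfG 17 169) (nfG_fn 169) D169_ok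

theorem big_170 : 3523 ≤ {y : ↥FiP | ∃ g : ↥FiP, g * nfG 17 170 * g⁻¹ = y}.ncard :=
  have := finite_FiP
  le_ncard_class D170 (nfG 17 170) (nfG_fn 170) D170_ok

theorem big_171 : 3523 ≤ {y : ↥FiP | ∃ g : ↥FiP, g * nfG 17 171 * g⁻¹ = y}.ncard :=
  have := finite_FiP
  le_ncard_class D171 (nfG 17 171) (nfG_fn 171) D171_ok

/-- every conjugate of the first letter is conjugate under a power of the element of order
thirteen to a representative. -/
theorem exists_rep_B (y : ↥FiP) (hy : ∃ g : ↥FiP, g * bG * g⁻¹ = y) :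
    ∃ i : ℕ, ∃ j, j < 270 ∧ aG ^ i * y * (aG ^ i)⁻¹ = repG DB bG j :=
  have := finite_FiP
  exists_rep DB bG bG_apply DB_ok card_class_le y hy

theorem factorization_two : Nat.card (SH 17) = 2 ^ (Nat.card ↥FiP).factorization 2 := by
  rw [card_SH, card_FiP]
  have h1 : (64561751654400 : ℕ) = 2 ^ 17 * 492567075 := by norm_num
  rw [h1, Nat.factorization_mul (by norm_num) (by norm_num)]
  simp only [Finsupp.coe_add, Pi.add_apply]
  rw [Nat.factorization_eq_zero_of_not_dvd (n := 492567075) (by norm_num)]
  have : (2 ^ 17).factorization 2 = 17 := by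
    rw [Nat.factorization_pow]
    simp [Nat.Prime.factorization_self Nat.prime_two]
  rw [this]
  norm_num

theorem relc_six_one : relc 6 1 = 3 := by decide +kernel

/-- every automorphism maps the first letter to a conjugate of it. -/
theorem aut_conj (β : MulAut ↥FiP) : ∃ g : ↥FiP, g * bG * g⁻¹ = β bG := by
  have := finite_FiP
  refine aut_conj_of_second_center (SH 17) factorization_two zG bG zG_ne_one
    (fun y hy => zG_comm hy) (fun x hx hc => center_SH hx hc) bG_mem bG_ne_one bG_ne_zG
    (fun s hs => bG_comm hs)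
    (fun x => {y : ↥FiP | ∃ g : ↥FiP, g * x * g⁻¹ = y}.ncard ≤ 3510) ?_ ?_ β
  · intro α
    rw [ncard_class_aut]
    exact card_class_le
  · intro y hy hy1 hyz hcomm hI
    obtain ⟨e, he, rfl⟩ := spec_of_comm hy hcomm
    rcases spec_cases he with rfl | rfl | rfl | rfl | rfl | rfl | rfl | rfl
    · exact absurd (nfG_zero 17) hy1
    · exact absurd (nfG_one (by norm_num)) hyz
    · refine ⟨1, ?_⟩
      rw [nfG_two (by norm_num), hG_one, one_mul, inv_one, mul_one]
    · refine ⟨hG 6, ?_⟩
      have h1 := hG_conj (m := 6) (k := 1) (by norm_num) (by norm_num)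
      rw [relc_six_one, nfG_three (by norm_num), hG_one] at h1
      rw [nfG_three (by norm_num), hG_one]
      exact h1
    · have h1 := big_168
      have h2 : {y : ↥FiP | ∃ g : ↥FiP, g * nfG 17 168 * g⁻¹ = y}.ncard ≤ 3510 := hI
      omega
    · have h1 := big_169
      have h2 : {y : ↥FiP | ∃ g : ↥FiP, g * nfG 17 169 * g⁻¹ = y}.ncard ≤ 3510 := hI
      omega
    · have h1 := big_170
      have h2 : {y : ↥FiP | ∃ g : ↥FiP, g * nfG 17 170 * g⁻¹ = y}.ncard ≤ 3510 := hI
      omega
    · have h1 := big_171
      have h2 : {y : ↥FiP | ∃ g : ↥FiP, g * nfG 17 171 * g⁻¹ = y}.ncard ≤ 3510 := hI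
      omega

end Cfsg.Agent.Helper9.FiO
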