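import Mathlib
import Cfsg.Agent.Helper9.FiO.Base
import Cfsg.Agent.Helper9.HeO.Abs

set_option autoImplicit false
set_option Elab.async false

/-! The Fischer group on 3510 points is generated by the element of order thirteen and the first
letter; an element normalizing the subgroup of order thirteen; the outer automorphism, which is
not inner. -/

namespace Cfsg.Agent.Helper9.FiO

open Cfsg.Agent.Helper9.J3 Cfsg.Agent.Helper9.HeO

/-! ### generation -/

/-- the element of an atom: a power of the element of order thirteen or the first letter. -/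
def atomE (t : ℕ) : ↥FiP := if t ≤ 12 then aG ^ t else bG

/-- the image of a point under an atom. -/
def atomF (t x : ℕ) : ℕ := Bool.rec (tabF 0 x) (aF t x) (Nat.ble t 12)

/-- the image of a point under a product of atoms. -/
def evA (w : List ℕ) (p : ℕ) : ℕ := List.rec p (fun t _ acc => atomF t acc) w

theorem atomE_apply (t : ℕ) (p : Fin nP) :
    ((atomE t : Equiv.Perm (Fin nP)) p).val = atomF t p.val := by
  unfold atomE atomF
  by_cases h : t ≤ 12
  · rw [if_pos h, Nat.ble_eq_true_of_le h]
    exact aG_pow_apply t (by omega) p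
  · rw [if_neg h]
    have : Nat.ble t 12 = false := by
      rw [← Bool.not_eq_true]
      intro h'
      exact h (Nat.le_of_ble_eq_true h')
    rw [this]
    exact bG_apply p

theorem prodA_apply (w : List ℕ) (p : Fin nP) :
    ((((w.map atomE).prod : ↥FiP) : Equiv.Perm (Fin nP)) p).val = evA w p.val := by
  induction w with
  | nil => rfl
  | cons t w ih =>
    rw [List.map_cons, List.prod_cons, Subgroup.coe_mul, Equiv.Perm.mul_apply, atomE_apply, ih]
    rfl

theorem atomE_mem (t : ℕ) : atomE t ∈ Subgroup.closure ({aG, bG} : Set ↥FiP) := by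
  unfold atomE
  split_ifs
  · exact Subgroup.pow_mem _ (Subgroup.subset_closure (by simp)) _
  · exact Subgroup.subset_closure (by simp)

/-- the check that a letter is a product of atoms. -/
def genChk (l : ℕ) (w : List ℕ) : Bool := allB (fun x => Nat.beq (evA w x) (tabF l x)) nP

theorem letter_mem {l : ℕ} (hl : l < 9) {w : List ℕ} (h : genChk l w = true) :
    (⟨P l, P_mem l⟩ : ↥FiP) ∈ Subgroup.closure ({aG, bG} : Set ↥FiP) := by
  have e : (⟨P l, P_mem l⟩ : ↥FiP) = (w.map atomE).prod := by
    apply Subtype.ext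
    apply perm_ext
    intro p
    rw [prodA_apply]
    change (P l p).val = _
    rw [P_apply, tab_of_lt hl]
    exact (Nat.eq_of_beq_eq_true (allB_true h p.isLt)).symm
  rw [e]
  apply Subgroup.list_prod_mem
  intro x hx
  obtain ⟨t, -, rfl⟩ := List.mem_map.mp hx
  exact atomE_mem t

set_option maxRecDepth 1000000 in
theorem gen1_b : genChk 1 genW1 = true := by decide +kernel

set_option maxRecDepth 1000000 in
theorem gen2_b : genChk 2 genW2 = true := by decide +kernel

set_option maxRecDepth 1000000 in
theorem gen3_b : genChk 3 genW3 = true := by decide +kernel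

set_option maxRecDepth 1000000 in
theorem gen4_b : genChk 4 genW4 = true := by decide +kernel

set_option maxRecDepth 1000000 in
theorem gen5_b : genChk 5 genW5 = true := by decide +kernel

set_option maxRecDepth 1000000 in
theorem gen6_b : genChk 6 genW6 = true := by decide +kernel

set_option maxRecDepth 1000000 in
theorem gen7_b : genChk 7 genW7 = true := by decide +kernel

set_option maxRecDepth 1000000 in
theorem gen8_b : genChk 8 genW8 = true := by decide +kernel

/-- the group is generated by the element of order thirteen and the first letter. -/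
theorem closure_aG_bG : Subgroup.closure ({aG, bG} : Set ↥FiP) = ⊤ := by
  rw [eq_top_iff]
  rintro ⟨x, hx⟩ -
  have key : ∀ l : ℕ, l < 9 →
      (⟨P l, P_mem l⟩ : ↥FiP) ∈ Subgroup.closure ({aG, bG} : Set ↥FiP) := by
    intro l hl
    interval_cases l
    · exact Subgroup.subset_closure (by simp [bG])
    · exact letter_mem (by norm_num) gen1_b
    · exact letter_mem (by norm_num) gen2_b
    · exact letter_mem (by norm_num) gen3_b
    · exact letter_mem (by norm_num) gen4_b
    · exact letter_mem (by norm_num) gen5_b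
    · exact letter_mem (by norm_num) gen6_b
    · exact letter_mem (by norm_num) gen7_b
    · exact letter_mem (by norm_num) gen8_b
  refine Subgroup.closure_induction
    (p := fun y hy => (⟨y, hy⟩ : ↥FiP) ∈ Subgroup.closure ({aG, bG} : Set ↥FiP)) ?_ ?_ ?_ ?_ hx
  · rintro y ⟨l, rfl⟩
    exact key l.val l.isLt
  · exact Subgroup.one_mem _
  · intro y z hy hz h1 h2
    exact Subgroup.mul_mem _ h1 h2
  · intro y hy h1
    exact Subgroup.inv_mem _ h1

/-! ### the normalizing element -/

/-- the element normalizing the subgroup of order thirteen. -/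
def nG : ↥FiP := ⟨permW nW, permW_mem _⟩

/-- the element of the group in the outer automorphism. -/
def hElt : ↥FiP := ⟨permW hW, permW_mem _⟩

theorem nW_letters : ∀ l ∈ nW, l < 9 := okLetters_true (by decide +kernel)

theorem hW_letters : ∀ l ∈ hW, l < 9 := okLetters_true (by decide +kernel)

set_option maxRecDepth 1000000 in
theorem n_conj_b : allB (fun x => Nat.beq (evalF nW (aF 1 x)) (sapp (aF 4) (evalF nW x))) nP =
    true := by
  decide +kernel

theorem conj_nG : nG * aG * nG⁻¹ = aG ^ 4 := by
  rw [mul_inv_eq_iff_eq_mul]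
  apply Subtype.ext
  apply perm_ext
  intro p
  rw [Subgroup.coe_mul, Subgroup.coe_mul, Equiv.Perm.mul_apply, Equiv.Perm.mul_apply,
    aG_pow_apply 4 (by norm_num)]
  change (permW nW ((aG : Equiv.Perm (Fin nP)) p)).val = aF 4 (permW nW p).val
  rw [permW_val _ nW_letters, permW_val _ nW_letters, aG_apply]
  have h := allB_true n_conj_b p.isLt
  rw [sapp_eq] at h
  exact Nat.eq_of_beq_eq_true h

/-- the outer automorphism. -/
def tau : MulAut ↥FiP := tauX * MulAut.conj hElt

set_option maxRecDepth 1000000 in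
theorem tau_b : allB (fun x => Nat.beq (sapp xF (evalF hW (aF 1 x)))
    (sapp (aF 2) (sapp xF (evalF hW x)))) nP = true := by
  decide +kernel

theorem tau_aG : tau aG = aG ^ 2 := by
  apply Subtype.ext
  change X * (hElt * aG * hElt⁻¹ : ↥FiP).1 * X⁻¹ = _
  rw [Subgroup.coe_mul, Subgroup.coe_mul, Subgroup.coe_inv, Subgroup.coe_pow]
  have key : X * hElt.1 * aG.1 = aG.1 ^ 2 * (X * hElt.1) := by
    apply perm_ext
    intro p
    have h3 := aG_pow_apply 2 (by norm_num) (X (hElt.1 p))
    rw [Subgroup.coe_pow] at h3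
    rw [Equiv.Perm.mul_apply, Equiv.Perm.mul_apply, Equiv.Perm.mul_apply, Equiv.Perm.mul_apply,
      h3, X_apply, X_apply]
    change xF (permW hW _).val = aF 2 (xF (permW hW p).val)
    rw [permW_val _ hW_letters, permW_val _ hW_letters, aG_apply]
    have h := allB_true tau_b p.isLt
    rw [sapp_eq, sapp_eq, sapp_eq] at h
    exact Nat.eq_of_beq_eq_true h
  calc X * (hElt.1 * aG.1 * hElt.1⁻¹) * X⁻¹ = (X * hElt.1 * aG.1) * (X * hElt.1)⁻¹ := by group
    _ = aG.1 ^ 2 := by rw [key, mul_inv_cancel_right]

/-! ### the automorphism is not inner -/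

/-- the letters fixing the first point. -/
def fixL : List ℕ := [0, 2, 3, 4, 5, 6, 7, 8]

/-- the check that the letters fixing the first point have no other common fixed point. -/
def fixChk (q : ℕ) : Bool :=
  orB (Nat.beq q 0) (notB (andB (Nat.beq (tabF 0 q) q) (andB (Nat.beq (tabF 2 q) q)
    (andB (Nat.beq (tabF 3 q) q) (andB (Nat.beq (tabF 4 q) q) (andB (Nat.beq (tabF 5 q) q)
      (andB (Nat.beq (tabF 6 q) q) (andB (Nat.beq (tabF 7 q) q) (Nat.beq (tabF 8 q) q)))))))))

set_option maxRecDepth 1000000 in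
theorem fix_b : andB (allB fixChk nP) (allB (fun l => Nat.beq (tabF (nthL fixL l) 0) 0) 8) =
    true := by
  decide +kernel

theorem P_zero {l : ℕ} (hl : l < 9) (hl1 : l ≠ 1) : P l (0 : Fin nP) = 0 := by
  obtain ⟨-, h⟩ := andB_true fix_b
  apply Fin.ext
  rw [P_apply, tab_of_lt hl]
  interval_cases l
  · exact Nat.eq_of_beq_eq_true (allB_true h (show 0 < 8 by norm_num))
  · exact absurd rfl hl1
  · exact Nat.eq_of_beq_eq_true (allB_true h (show 1 < 8 by norm_num))
  · exact Nat.eq_of_beq_eq_true (allB_true h (show 2 < 8 by norm_num))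
  · exact Nat.eq_of_beq_eq_true (allB_true h (show 3 < 8 by norm_num))
  · exact Nat.eq_of_beq_eq_true (allB_true h (show 4 < 8 by norm_num))
  · exact Nat.eq_of_beq_eq_true (allB_true h (show 5 < 8 by norm_num))
  · exact Nat.eq_of_beq_eq_true (allB_true h (show 6 < 8 by norm_num))
  · exact Nat.eq_of_beq_eq_true (allB_true h (show 7 < 8 by norm_num))

/-- a permutation of the points that commutes with the letters is the identity. -/
theorem cent_trivial (c : Equiv.Perm (Fin nP)) (hc : ∀ l : ℕ, l < 9 → c * P l = P l * c) :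
    c = 1 := by
  have hfix : ∀ l : ℕ, l < 9 → l ≠ 1 → (tabF l (c 0).val) = (c 0).val := by
    intro l hl hl1
    have h1 := congrArg (fun σ : Equiv.Perm (Fin nP) => (σ (0 : Fin nP)).val) (hc l hl)
    simp only [Equiv.Perm.mul_apply] at h1
    rw [P_zero hl hl1, P_apply, tab_of_lt hl] at h1
    exact h1.symm
  have h0 : c 0 = 0 := by
    obtain ⟨h, -⟩ := andB_true fix_b
    rcases orB_true (allB_true h (c 0).isLt) with h1 | h1
    · exact Fin.ext (Nat.eq_of_beq_eq_true h1)
    · exfalso
      have h2 := notB_true h1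
      rw [hfix 0 (by norm_num) (by norm_num), hfix 2 (by norm_num) (by norm_num),
        hfix 3 (by norm_num) (by norm_num), hfix 4 (by norm_num) (by norm_num),
        hfix 5 (by norm_num) (by norm_num), hfix 6 (by norm_num) (by norm_num),
        hfix 7 (by norm_num) (by norm_num), hfix 8 (by norm_num) (by norm_num),
        Nat.beq_refl] at h2
      exact Bool.noConfusion h2
  have hcomm : ∀ g ∈ FiP, c * g = g * c := by
    intro g hg
    refine Subgroup.closure_induction (p := fun g _ => c * g = g * c) ?_ ?_ ?_ ?_ hg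
    · rintro y ⟨l, rfl⟩
      exact hc l.val l.isLt
    · rw [mul_one, one_mul]
    · intro x y _ _ hx hy
      rw [← mul_assoc, hx, mul_assoc, hy, mul_assoc]
    · intro x _ hx
      rw [eq_inv_mul_iff_mul_eq, ← mul_assoc, ← hx, mul_inv_cancel_right]
  apply Equiv.ext
  intro x
  obtain ⟨g, hg, hgx⟩ := exists_mem_FiP x.val x.isLt
  have hx : x = g 0 := by
    rw [hgx]
  rw [hx]
  have h1 := congrArg (fun σ : Equiv.Perm (Fin nP) => σ (0 : Fin nP)) (hcomm g hg)
  simp only [Equiv.Perm.mul_apply] at h1
  rw [h0] at h1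
  exact h1

theorem tau_not_inner : ¬ ∃ d : ↥FiP, tau = MulAut.conj d := by
  rintro ⟨d, hd⟩
  -- the involution of the points acts as an element of the group
  have h1 : ∀ g : ↥FiP, X * g.1 * X⁻¹ = (d * hElt⁻¹).1 * g.1 * ((d * hElt⁻¹).1)⁻¹ := by
    intro g
    have h2 := congrArg (fun f : MulAut ↥FiP => (f (hElt⁻¹ * g * hElt)).1) hd
    simp only [tau, MulAut.mul_apply, MulAut.conj_apply] at h2
    have e1 : hElt * (hElt⁻¹ * g * hElt) * hElt⁻¹ = g := by group
    rw [e1, tauX_apply] at h2
    rw [h2]
    have e2 : d * (hElt⁻¹ * g * hElt) * d⁻¹ = (d * hElt⁻¹) * g * (d * hElt⁻¹)⁻¹ := by group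
    rw [e2]
    rfl
  have h3 : ((d * hElt⁻¹).1)⁻¹ * X = 1 := by
    apply cent_trivial
    intro l hl
    have h4 := h1 ⟨P l, P_mem l⟩
    change X * P l * X⁻¹ = (d * hElt⁻¹).1 * P l * ((d * hElt⁻¹).1)⁻¹ at h4
    calc ((d * hElt⁻¹).1)⁻¹ * X * P l
        = ((d * hElt⁻¹).1)⁻¹ * (X * P l * X⁻¹) * X := by group
      _ = ((d * hElt⁻¹).1)⁻¹ * ((d * hElt⁻¹).1 * P l * ((d * hElt⁻¹).1)⁻¹) * X := by rw [h4]
      _ = P l * (((d * hElt⁻¹).1)⁻¹ * X) := by group
  have h5 : X = (d * hElt⁻¹).1 := by
    rw [inv_mul_eq_one] at h3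
    exact h3.symm
  apply X_not_mem
  rw [h5]
  exact (d * hElt⁻¹).2

end Cfsg.Agent.Helper9.FiO
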