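import Mathlib
import Cfsg.Prelude
import Cfsg.Agent.Helper9.FiO.Norm
import Cfsg.Agent.Helper9.FiO.Invs
import Cfsg.Agent.Helper9.Out.OutLemma2

set_option autoImplicit false
set_option Elab.async false

/-! The outer automorphism group of the Fischer group on 3510 points has two elements. -/

namespace Cfsg.Agent.Helper9.FiO

open Cfsg.Agent.Helper9.J3 Cfsg.Agent.Helper9.HeO Cfsg.Agent.Helper9.OutL
open Cfsg Cfsg.Spor

/-- the relations of the element of order thirteen and the first letter. -/
def relsL : List (List Bool × ℕ) :=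
  [([true, false], 30), ([true, true, false], 9), ([true, true, true, false], 12)]

/-- the image of a point under a power. -/
def powF (f : ℕ → ℕ) (e p : ℕ) : ℕ := Nat.rec p (fun _ acc => f acc) e

theorem pow_apply_val {σ : Equiv.Perm (Fin nP)} {f : ℕ → ℕ}
    (hf : ∀ p : Fin nP, (σ p).val = f p.val) (e : ℕ) (p : Fin nP) :
    ((σ ^ e) p).val = powF f e p.val := by
  induction e with
  | zero => rfl
  | succ e ih =>
    rw [pow_succ', Equiv.Perm.mul_apply, hf, ih]
    rfl

theorem evalW_1 {X : Type*} [Monoid X] (a y : X) : evalW [true, false] a y = a ^ 1 * y := by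
  unfold evalW
  simp

theorem evalW_2 {X : Type*} [Monoid X] (a y : X) : evalW [true, true, false] a y = a ^ 2 * y := by
  unfold evalW
  simp [pow_succ, mul_assoc]

theorem evalW_3 {X : Type*} [Monoid X] (a y : X) :
    evalW [true, true, true, false] a y = a ^ 3 * y := by
  unfold evalW
  simp [pow_succ, mul_assoc]

/-- the image of a point under the product of a power of the element of order thirteen and
a second element. -/
def sylF (k : ℕ) (g : ℕ → ℕ) (x : ℕ) : ℕ := aF k (g x)

theorem syl_apply {k : ℕ} (hk : k ≤ 13) {y : ↥FiP} {g : ℕ → ℕ}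
    (hg : ∀ p : Fin nP, ((y : Equiv.Perm (Fin nP)) p).val = g p.val) (p : Fin nP) :
    (((aG ^ k * y : ↥FiP) : Equiv.Perm (Fin nP)) p).val = sylF k g p.val := by
  rw [Subgroup.coe_mul, Equiv.Perm.mul_apply, aG_pow_apply k hk, hg]
  rfl

/-- a relation in terms of the images of the points. -/
theorem rel_pointwise {z : ↥FiP} {f : ℕ → ℕ}
    (hf : ∀ p : Fin nP, ((z : Equiv.Perm (Fin nP)) p).val = f p.val) (o : ℕ)
    (h : z ^ o = 1) (p : Fin nP) : powF f o p.val = p.val := by
  have h1 := pow_apply_val (σ := (z : Equiv.Perm (Fin nP))) hf o p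
  rw [← Subgroup.coe_pow, h] at h1
  exact h1.symm

theorem rel_of_pointwise {z : ↥FiP} {f : ℕ → ℕ}
    (hf : ∀ p : Fin nP, ((z : Equiv.Perm (Fin nP)) p).val = f p.val) (o : ℕ)
    (h : allB (fun x => Nat.beq (powF f o x) x) nP = true) : z ^ o = 1 := by
  apply Subtype.ext
  apply perm_ext
  intro p
  rw [Subgroup.coe_pow, pow_apply_val hf o p]
  exact Nat.eq_of_beq_eq_true (allB_true h p.isLt)

set_option maxRecDepth 1000000 in
theorem hrel1_b : allB (fun x => Nat.beq (powF (sylF 1 (tabF 0)) 30 x) x) nP = true := by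
  decide +kernel

set_option maxRecDepth 1000000 in
theorem hrel2_b : allB (fun x => Nat.beq (powF (sylF 2 (tabF 0)) 9 x) x) nP = true := by
  decide +kernel

set_option maxRecDepth 1000000 in
theorem hrel3_b : allB (fun x => Nat.beq (powF (sylF 3 (tabF 0)) 12 x) x) nP = true := by
  decide +kernel

theorem mem_relsL {e : List Bool × ℕ} (he : e ∈ relsL) :
    e = ([true, false], 30) ∨ e = ([true, true, false], 9) ∨
      e = ([true, true, true, false], 12) := by
  unfold relsL at he
  simpa using he

/-- the relations hold for the element of order thirteen and the first letter. -/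
theorem hrels : ∀ e ∈ relsL, evalW e.1 aG bG ^ e.2 = 1 := by
  intro e he
  rcases mem_relsL he with rfl | rfl | rfl
  · rw [evalW_1]
    exact rel_of_pointwise (syl_apply (by norm_num) bG_apply) 30 hrel1_b
  · rw [evalW_2]
    exact rel_of_pointwise (syl_apply (by norm_num) bG_apply) 9 hrel2_b
  · rw [evalW_3]
    exact rel_of_pointwise (syl_apply (by norm_num) bG_apply) 12 hrel3_b

/-- the entry of the witnesses of the failing relations. -/
def tst (j : ℕ) : ℕ := lkF 16 65535 tstB j

/-- the image of a point under the power of a relation. -/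
def relF (r : ℕ) (g : ℕ → ℕ) (pt : ℕ) : ℕ :=
  Nat.rec (powF (sylF 1 g) 30 pt) (fun r1 _ => Nat.rec (powF (sylF 2 g) 9 pt)
    (fun _ _ => powF (sylF 3 g) 12 pt) r1) r

/-- the check that a representative other than the first letter fails a relation. -/
def testChk (j : ℕ) : Bool :=
  orB (orB (Nat.beq j 0) (Nat.ble 270 j)) (sapp (fun t => sapp (fun c =>
    sapp (fun r => sapp (fun pt =>
      andB (Nat.ble r 2) (andB (Nat.ble pt 3509)
        (notB (Nat.beq (relF r (repF (tabF 0) c) pt) pt))))
    (Nat.shiftRight t 3)) (Nat.land t 7)) (repc DB j)) (tst j))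

set_option maxRecDepth 1000000 in
theorem test_b : allB testChk 270 = true := by decide +kernel

/-- the representatives of the conjugates of the first letter. -/
def Cand : Set ↥FiP := {g | ∃ j, j < 270 ∧ g = repG DB bG j}

theorem repG_zero : repG DB bG 0 = bG := by
  have h0 : repc DB 0 = 0 := by decide +kernel
  unfold repG
  rw [h0]
  rfl

theorem repG_B_apply {j : ℕ} (hj : j < 270) (p : Fin nP) :
    ((repG DB bG j : Equiv.Perm (Fin nP)) p).val = repF (tabF 0) (repc DB j) p.val :=
  repG_apply DB bG bG_apply DB_ok hj p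

theorem htest : ∀ b' ∈ Cand, (∀ e ∈ relsL, evalW e.1 aG b' ^ e.2 = 1) →
    ∃ i : ℕ, b' = aG ^ i * bG * (aG ^ i)⁻¹ := by
  rintro b' ⟨j, hj, rfl⟩ hr
  rcases orB_true (allB_true test_b hj) with h0 | h1
  · rcases orB_true h0 with h0 | h0
    · refine ⟨0, ?_⟩
      rw [Nat.eq_of_beq_eq_true h0, repG_zero, pow_zero, one_mul, inv_one, mul_one]
    · have := Nat.le_of_ble_eq_true h0
      omega
  · exfalso
    rw [sapp_eq, sapp_eq, sapp_eq, sapp_eq] at h1
    obtain ⟨hr4, h1⟩ := andB_true h1
    obtain ⟨hpt, h1⟩ := andB_true h1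
    have hr4' := Nat.le_of_ble_eq_true hr4
    have hpt' : Nat.shiftRight (tst j) 3 < nP := Nat.lt_succ_of_le (Nat.le_of_ble_eq_true hpt)
    have h2 := notB_true h1
    have hm : ∀ e : List Bool × ℕ, e ∈ relsL → evalW e.1 aG (repG DB bG j) ^ e.2 = 1 := hr
    have e1 := hm ([true, false], 30) (by unfold relsL; simp)
    have e2 := hm ([true, true, false], 9) (by unfold relsL; simp)
    have e3 := hm ([true, true, true, false], 12) (by unfold relsL; simp)
    rw [evalW_1] at e1
    rw [evalW_2] at e2
    rw [evalW_3] at e3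
    have k1 := rel_pointwise (syl_apply (by norm_num) (repG_B_apply hj)) 30 e1 ⟨_, hpt'⟩
    have k2 := rel_pointwise (syl_apply (by norm_num) (repG_B_apply hj)) 9 e2 ⟨_, hpt'⟩
    have k3 := rel_pointwise (syl_apply (by norm_num) (repG_B_apply hj)) 12 e3 ⟨_, hpt'⟩
    generalize hrv : Nat.land (tst j) 7 = r at hr4' h2
    interval_cases r
    · change Nat.beq (powF (sylF 1 (repF (tabF 0) (repc DB j))) 30 _) _ = false at h2
      rw [k1, Nat.beq_refl] at h2
      exact Bool.noConfusion h2
    · change Nat.beq (powF (sylF 2 (repF (tabF 0) (repc DB j))) 9 _) _ = false at h2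
      rw [k2, Nat.beq_refl] at h2
      exact Bool.noConfusion h2
    · change Nat.beq (powF (sylF 3 (repF (tabF 0) (repc DB j))) 12 _) _ = false at h2
      rw [k3, Nat.beq_refl] at h2
      exact Bool.noConfusion h2

theorem hCand (β : MulAut ↥FiP) : ∃ i : ℕ, aG ^ i * β bG * (aG ^ i)⁻¹ ∈ Cand := by
  obtain ⟨i, j, hj, e⟩ := exists_rep_B _ (aut_conj β)
  exact ⟨i, j, hj, e⟩

theorem hK0aux : ∀ k < 13, 0 < k → ∃ j < 6, ∃ k0 ∈ [1, 7], (k * 4 ^ j) % 13 = k0 % 13 := by
  decide

theorem hK0 : ∀ k, 0 < k → k < 13 → ∃ j : ℕ, ∃ k0 ∈ [1, 7], (k * 4 ^ j) % 13 = k0 % 13 := by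
  intro k h0 h13
  obtain ⟨j, -, h⟩ := hK0aux k h13 h0
  exact ⟨j, h⟩

/-- the outer automorphism group has two elements. -/
theorem out_card : Nat.card (Cfsg.Out ↥FiP) = 2 := by
  have hc := card_FiP
  have := finite_FiP
  have : Fact (Nat.Prime 13) := ⟨by norm_num⟩
  have hnd : ¬ 13 ^ 2 ∣ Nat.card ↥FiP := by
    rw [hc]
    decide
  apply card_out_eq_two tau tau_not_inner
  intro α
  exact inner_or_tau 13 aG bG nG 4 closure_aG_bG order_aG hnd conj_nG tau 2 7
    tau_aG (by norm_num) hK0 Cand hCand relsL hrels htest α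

/-- the outer automorphism group of the presented Fischer group has two elements. -/
theorem out_card_Fi22 : Nat.card (Cfsg.Out Fi22) = 2 := by
  obtain ⟨e⟩ := FiP_iso isFi22.1
  rw [card_out_congr e]
  exact out_card

end Cfsg.Agent.Helper9.FiO
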